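import Mathlib

set_option autoImplicit false
universe u v w

namespace Groth.Agent.Quick8
open Polynomial TensorProduct

theorem vandermonde_zero {K : Type u} {H : Type v} [Field K] [AddCommGroup H] [Module K H]
    (l : ℕ) (b : Fin (l + 1) → H)
    (h : Set.Infinite {t : K | ∑ i : Fin (l + 1), t ^ (i : ℕ) • b i = 0}) :
    b = 0 := by
  classical
  funext i
  rw [Pi.zero_apply, ← Module.forall_dual_apply_eq_zero_iff K]
  intro φ
  let q : Polynomial K := ∑ j : Fin (l + 1), Polynomial.C (φ (b j)) * Polynomial.X ^ (j : ℕ)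
  have hq : q = 0 := by
    refine eq_zero_of_infinite_isRoot _ (h.mono fun t ht => ?_)
    have := congrArg φ (Set.mem_ofPred_eq ▸ ht)
    simp only [map_sum, map_smul, smul_eq_mul, map_zero] at this
    show q.IsRoot t
    simp only [q, IsRoot, eval_finsetSum, eval_mul, eval_C, eval_pow, eval_X]
    rw [← this]
    exact Finset.sum_congr rfl fun j _ => mul_comm _ _
  have := congrArg (fun r => coeff r (i : ℕ)) hq
  simp only [q, finsetSum_coeff, coeff_C_mul_X_pow, coeff_zero] at this
  rw [Finset.sum_eq_single i (fun j _ hj => if_neg (fun h' => hj (Fin.ext h'.symm))) (by simp), if_pos rfl] at this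
  exact this

theorem cocycle_coboundary (Γ : Type u) [CommGroup Γ] (F : Type v) [Field F] (χ : Γ →* Fˣ) (hχ : χ ≠ 1)
    (c : Γ → F) (hc : ∀ g h : Γ, c (g * h) = c g + (χ g : F) * c h) :
    ∃ x : F, ∀ g : Γ, c g = ((χ g : F) - 1) * x := by
  obtain ⟨h, hh⟩ : ∃ h, χ h ≠ 1 := by
    by_contra! hall
    exact hχ (MonoidHom.ext hall)
  have h1 : (χ h : F) - 1 ≠ 0 := sub_ne_zero.mpr fun e => hh (Units.ext e)
  refine ⟨c h / ((χ h : F) - 1), fun g => ?_⟩
  have := (hc g h).symm.trans ((congrArg c (mul_comm g h)).trans (hc h g))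
  field_simp
  linear_combination -this

theorem comm_of_laurent (A : Type u) [CommRing A]
    (H : Type v) [Ring H] [Algebra (PowerSeries A) H] [Module.Flat (PowerSeries A) H]
    (hcomm : ∀ x y : LaurentSeries A ⊗[PowerSeries A] H, x * y = y * x) :
    ∀ x y : H, x * y = y * x := by
  have hinj : Function.Injective (algebraMap (PowerSeries A) (LaurentSeries A)) := by
    intro a b h
    rw [show algebraMap (PowerSeries A) (LaurentSeries A) = HahnSeries.ofPowerSeries ℤ A from rfl] at h
    exact HahnSeries.ofPowerSeries_injective h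
  intro x y
  apply (Algebra.TensorProduct.includeRight_injective (R := PowerSeries A) (A := LaurentSeries A) (B := H) hinj)
  rw [map_mul, map_mul, hcomm]

theorem jacobi_iff (R : Type u) [CommRing R] (M : Type v) [AddCommGroup M] [Module R M]
    (bs : Module.Basis (Fin 3) R M) (B : M →ₗ[R] M →ₗ[R] M) (halt : ∀ m : M, B m m = 0)
    (a b c d e f g h i : R)
    (hxy : B (bs 0) (bs 1) = a • bs 0 + b • bs 1 + c • bs 2)
    (hxz : B (bs 0) (bs 2) = d • bs 0 + e • bs 1 + f • bs 2)
    (hyz : B (bs 1) (bs 2) = g • bs 0 + h • bs 1 + i • bs 2) :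
    (∀ u v w : M, B u (B v w) + B v (B w u) + B w (B u v) = 0) ↔
      (a * h + d * i - f * g - b * g = 0 ∧ i * e + b * d - f * h - a * e = 0 ∧
        h * c + d * c - a * f - b * i = 0) := by
  have sk : ∀ u v : M, B v u = -B u v := by
    intro u v
    have := halt (u + v)
    simp only [map_add, LinearMap.add_apply, halt, zero_add, add_zero] at this
    exact eq_neg_of_add_eq_zero_left this
  have hyx := sk (bs 0) (bs 1)
  have hzx := sk (bs 0) (bs 2)
  have hzy := sk (bs 1) (bs 2)
  rw [hxy] at hyx; rw [hxz] at hzx; rw [hyz] at hzy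
  let J : M → M → M → M := fun u v w => B u (B v w) + B v (B w u) + B w (B u v)
  have key : J (bs 0) (bs 1) (bs 2) = (a * h + d * i - f * g - b * g) • bs 0 + (i * e + b * d - f * h - a * e) • bs 1 + (h * c + d * c - a * f - b * i) • bs 2 := by
    simp only [J, hxy, hxz, hyz, hyx, hzx, hzy, map_add, map_neg, map_smul, LinearMap.add_apply, halt, smul_add, smul_neg, smul_zero, smul_smul, neg_add_rev]
    module
  constructor
  · intro H
    have h1 := H (bs 0) (bs 1) (bs 2)
    change J _ _ _ = 0 at h1
    rw [key] at h1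
    have h2 := congrArg (fun m => (bs.repr m : Fin 3 → R)) h1
    simp only [map_add, map_smul, Module.Basis.repr_self, map_zero, Finsupp.coe_add, Finsupp.coe_smul] at h2
    refine ⟨?_, ?_, ?_⟩
    · simpa using congrFun h2 0
    · simpa using congrFun h2 1
    · have := congrFun h2 2
      simp at this
      linear_combination this
  · rintro ⟨h1, h2, h3⟩
    have k0 : J (bs 0) (bs 1) (bs 2) = 0 := by rw [key, h1, h2, h3]; simp
    have hb : ∀ p q r, J (bs p) (bs q) (bs r) = 0 := by
      intro p q r
      simp only [J] at k0 ⊢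
      fin_cases p <;> fin_cases q <;> fin_cases r <;>
        simp only [halt, hxy, hxz, hyz, hyx, hzx, hzy, map_add, map_neg, map_smul, map_zero, Fin.zero_eta, Fin.mk_one, Fin.reduceFinMk] at k0 ⊢ <;>
        first
          | module
          | linear_combination (norm := module) k0
          | linear_combination (norm := module) -k0
    have hlin : ∀ v w, (∀ p, J (bs p) v w = 0) → ∀ u, J u v w = 0 := by
      intro v w hp u
      let T : M →ₗ[R] M := B.flip (B v w) + (B v).comp (B w) + (B w).comp (B.flip v)
      have hT : T = 0 := bs.ext fun p => by simpa [T, J] using hp p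
      simpa [T, J] using LinearMap.congr_fun hT u
    have rot : ∀ u v w, J u v w = J v w u := fun u v w => by simp only [J]; abel
    intro u v w
    refine hlin v w (fun p => ?_) u
    rw [rot]
    refine hlin w (bs p) (fun q => ?_) v
    rw [rot]
    exact hlin (bs p) (bs q) (fun r => hb r p q) w

theorem isSquare_iff_even (k : Type u) [Field k] [IsAlgClosed k] (h2 : (2 : k) ≠ 0)
    (f : LaurentSeries k) (hf : f ≠ 0) : IsSquare f ↔ Even f.order := by
  constructor
  · rintro ⟨g, rfl⟩
    have hg : g ≠ 0 := fun h => hf (by simp [h])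
    rw [HahnSeries.order_mul hg hg]
    exact ⟨_, rfl⟩
  · rintro ⟨m, hm⟩
    let P : PowerSeries k := f.powerSeriesPart
    have hP0 : PowerSeries.constantCoeff P ≠ 0 := by
      rw [← PowerSeries.coeff_zero_eq_constantCoeff_apply]
      simp [P, LaurentSeries.powerSeriesPart_coeff]
      exact hf
    have hsep : IsSquare P := by
      obtain ⟨r, hr⟩ := IsAlgClosed.exists_eq_mul_self (PowerSeries.constantCoeff P)
      have hr0 : r ≠ 0 := fun h => hP0 (by rw [hr, h, mul_zero])
      haveI : HenselianRing (PowerSeries k) (Ideal.span {PowerSeries.X}) := IsAdicComplete.henselianRing _ _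
      obtain ⟨a, ha, -⟩ := HenselianRing.is_henselian (I := Ideal.span {(PowerSeries.X : PowerSeries k)}) (Polynomial.X ^ 2 - Polynomial.C P) (Polynomial.monic_X_pow_sub_C _ two_ne_zero) (PowerSeries.C r)
        (by
          rw [Ideal.mem_span_singleton, PowerSeries.X_dvd_iff]
          simp [hr, sq])
        (by
          refine (IsUnit.map _ ?_)
          rw [PowerSeries.isUnit_iff_constantCoeff]
          simp [derivative_X_pow, hr0, one_add_one_eq_two, map_ofNat, h2])
      exact ⟨a, by simpa [Polynomial.IsRoot, sub_eq_zero, sq, eq_comm] using ha⟩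
    obtain ⟨a, ha⟩ := hsep
    refine ⟨HahnSeries.single m 1 * HahnSeries.ofPowerSeries ℤ k a, ?_⟩
    conv_lhs => rw [← LaurentSeries.single_order_mul_powerSeriesPart f]
    rw [show f.powerSeriesPart = a * a from ha, hm, map_mul, show HahnSeries.single (m + m) (1 : k) = HahnSeries.single m 1 * HahnSeries.single m 1 by simp]
    ring

end Groth.Agent.Quick8
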