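import Mathlib

set_option autoImplicit false
universe u v w

namespace Groth.Agent.Quick8

variable {A : Type u} [CommRing A] {L : Type v} [LieRing L] [LieAlgebra A L] {L' : Type w} [LieRing L'] [LieAlgebra A L']

theorem bracket_coords (b : Module.Basis (Fin 3) A L) (p q r s : A)
    (h01 : ⁅b 0, b 1⁆ = p • b 1 + q • b 2) (h02 : ⁅b 0, b 2⁆ = r • b 1 + s • b 2) (h12 : ⁅b 1, b 2⁆ = 0) (u v : L) :
    b.repr ⁅u, v⁆ 0 = 0 ∧
    b.repr ⁅u, v⁆ 1 = (b.repr u 0 * b.repr v 1 - b.repr u 1 * b.repr v 0) * p + (b.repr u 0 * b.repr v 2 - b.repr u 2 * b.repr v 0) * r ∧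
    b.repr ⁅u, v⁆ 2 = (b.repr u 0 * b.repr v 1 - b.repr u 1 * b.repr v 0) * q + (b.repr u 0 * b.repr v 2 - b.repr u 2 * b.repr v 0) * s := by
  have e : ⁅u, v⁆ = (b.repr u 0 * b.repr v 1 - b.repr u 1 * b.repr v 0) • ⁅b 0, b 1⁆ + (b.repr u 0 * b.repr v 2 - b.repr u 2 * b.repr v 0) • ⁅b 0, b 2⁆ := by
    conv_lhs => rw [← b.sum_repr u, ← b.sum_repr v]
    simp only [Fin.sum_univ_three, add_lie, lie_add, smul_lie, lie_smul, lie_self, h12, ← lie_skew (b 1) (b 0), ← lie_skew (b 2) (b 0), ← lie_skew (b 2) (b 1), smul_zero, neg_zero, smul_neg]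
    module
  rw [e, h01, h02]
  simp only [map_add, map_smul, Module.Basis.repr_self, Finsupp.add_apply, Finsupp.smul_apply, Finsupp.single_apply, smul_eq_mul]
  refine ⟨?_, ?_, ?_⟩ <;> simp

theorem det_unit (b : Module.Basis (Fin 3) A L) (b' : Module.Basis (Fin 3) A L') (φ : L ≃ₗ⁅A⁆ L')
    (h1 : b'.repr (φ (b 1)) 0 = 0) (h2 : b'.repr (φ (b 2)) 0 = 0) :
    IsUnit (b'.repr (φ (b 0)) 0 * (b'.repr (φ (b 1)) 1 * b'.repr (φ (b 2)) 2 - b'.repr (φ (b 1)) 2 * b'.repr (φ (b 2)) 1)) := by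
  have h := LinearEquiv.isUnit_det φ.toLinearEquiv b b'
  rw [Matrix.det_fin_three] at h
  simp only [LinearMap.toMatrix_apply, LinearEquiv.coe_coe, LieEquiv.coe_toLinearEquiv, h1, h2] at h
  ring_nf at h ⊢
  exact h

theorem vec3 (b : Module.Basis (Fin 3) A L) (u : L) : u = b.repr u 0 • b 0 + b.repr u 1 • b 1 + b.repr u 2 • b 2 := by
  conv_lhs => rw [← b.sum_repr u]
  rw [Fin.sum_univ_three]

theorem lieEquiv_of_basis (b : Module.Basis (Fin 3) A L) (e : L ≃ₗ[A] L')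
    (h01 : e ⁅b 0, b 1⁆ = ⁅e (b 0), e (b 1)⁆) (h02 : e ⁅b 0, b 2⁆ = ⁅e (b 0), e (b 2)⁆)
    (h12 : e ⁅b 1, b 2⁆ = ⁅e (b 1), e (b 2)⁆) : Nonempty (L ≃ₗ⁅A⁆ L') := by
  refine ⟨{ e with map_lie' := fun {x y} => ?_ }⟩
  show e ⁅x, y⁆ = ⁅e x, e y⁆
  rw [vec3 b x, vec3 b y]
  simp only [add_lie, lie_add, smul_lie, lie_smul, lie_self, map_add, map_smul, map_zero, smul_zero, ← lie_skew (b 1) (b 0), ← lie_skew (b 2) (b 0), ← lie_skew (b 2) (b 1), ← lie_skew (e (b 1)) (e (b 0)), ← lie_skew (e (b 2)) (e (b 0)), ← lie_skew (e (b 2)) (e (b 1)), map_neg, smul_neg, h01, h02, h12]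

theorem aut_r3 (A : Type u) [CommRing A] (h2 : IsUnit (2 : A))
    (L : Type v) [LieRing L] [LieAlgebra A L] (bs : Module.Basis (Fin 3) A L)
    (hxy : ⁅bs 0, bs 1⁆ = bs 1) (hxz : ⁅bs 0, bs 2⁆ = bs 1 + bs 2) (hyz : ⁅bs 1, bs 2⁆ = 0)
    (φ : L ≃ₗ⁅A⁆ L) :
    ∃ b c h i : A, IsUnit i ∧ φ (bs 0) = bs 0 + b • bs 1 + c • bs 2 ∧ φ (bs 1) = i • bs 1 ∧
      φ (bs 2) = h • bs 1 + i • bs 2 := by
  have C := bracket_coords bs 1 0 1 1 (by simp [hxy]) (by simp [hxz]) hyz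
  obtain ⟨a0, a1, a2⟩ := C (φ (bs 0)) (φ (bs 1))
  obtain ⟨c0, c1, c2⟩ := C (φ (bs 0)) (φ (bs 2))
  rw [← LieEquiv.map_lie, hxy] at a0 a1 a2
  rw [← LieEquiv.map_lie, hxz, ← LieEquiv.coe_toLinearEquiv, map_add, LieEquiv.coe_toLinearEquiv, map_add, Finsupp.add_apply] at c0 c1 c2
  rw [a0] at a1 a2 c0
  rw [zero_add] at c0
  rw [c0] at c1 c2
  have hd := det_unit bs bs φ a0 c0
  set t := bs.repr (φ (bs 0)) 0
  set Y1 := bs.repr (φ (bs 1)) 1
  set Y2 := bs.repr (φ (bs 1)) 2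
  set Z1 := bs.repr (φ (bs 2)) 1
  set Z2 := bs.repr (φ (bs 2)) 2
  have hD := isUnit_of_mul_isUnit_right hd
  have ht : t = 1 := by
    have h0 : (Y1 * Z2 - Y2 * Z1) * 2 * (1 - t) = 0 := by
      linear_combination Z2 * a1 - Z1 * a2 - Y2 * c1 + Y1 * c2
    have := (hD.mul h2).mul_right_eq_zero.mp h0
    linear_combination -this
  rw [ht] at a2 c1 c2
  have hY2 : Y2 = 0 := by linear_combination c2
  have hYZ : Y1 = Z2 := by linear_combination c1
  refine ⟨bs.repr (φ (bs 0)) 1, bs.repr (φ (bs 0)) 2, Z1, Z2, ?_, ?_, ?_, ?_⟩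
  · rw [hY2, hYZ, zero_mul, sub_zero] at hD
    exact isUnit_of_mul_isUnit_right hD
  · conv_lhs => rw [vec3 bs (φ (bs 0)), show bs.repr (φ (bs 0)) 0 = 1 from ht, one_smul]
  · rw [vec3 bs (φ (bs 1)), a0, show bs.repr (φ (bs 1)) 2 = 0 from hY2, show bs.repr (φ (bs 1)) 1 = Z2 from hYZ]; simp
  · conv_lhs => rw [vec3 bs (φ (bs 2)), c0, zero_smul, zero_add]

theorem aut_alpha (K : Type u) [Field K] (α : K) (A : Type v) [CommRing A] [Algebra K A]
    (L : Type w) [LieRing L] [LieAlgebra A L] (bs : Module.Basis (Fin 3) A L)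
    (hxy : ⁅bs 0, bs 1⁆ = bs 1) (hxz : ⁅bs 0, bs 2⁆ = algebraMap K A α • bs 2) (hyz : ⁅bs 1, bs 2⁆ = 0)
    (φ : L ≃ₗ⁅A⁆ L) :
    (α ^ 2 ≠ 1 → ∃ b c e i : A, IsUnit e ∧ IsUnit i ∧ φ (bs 0) = bs 0 + b • bs 1 + c • bs 2 ∧
        φ (bs 1) = e • bs 1 ∧ φ (bs 2) = i • bs 2) ∧
    (α = 1 → ∃ b c e f h i : A, IsUnit (e * i - f * h) ∧ φ (bs 0) = bs 0 + b • bs 1 + c • bs 2 ∧
        φ (bs 1) = e • bs 1 + f • bs 2 ∧ φ (bs 2) = h • bs 1 + i • bs 2) := by
  set a := algebraMap K A α with ha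
  have C := bracket_coords bs 1 0 0 a (by simp [hxy]) (by simp [hxz]) hyz
  obtain ⟨a0, a1, a2⟩ := C (φ (bs 0)) (φ (bs 1))
  obtain ⟨c0, c1, c2⟩ := C (φ (bs 0)) (φ (bs 2))
  rw [← LieEquiv.map_lie, hxy] at a0 a1 a2
  rw [← LieEquiv.map_lie, hxz, ← LieEquiv.coe_toLinearEquiv, map_smul, LieEquiv.coe_toLinearEquiv, map_smul, Finsupp.smul_apply, smul_eq_mul] at c0 c1 c2
  rw [a0] at a1 a2
  constructor
  · intro hα
    have hp : IsUnit (1 + a) := by
      rw [ha, ← map_one (algebraMap K A), ← map_add]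
      exact (Ne.isUnit fun h => hα (by linear_combination (α - 1) * h)).map _
    have hm : IsUnit (a - 1) := by
      rw [ha, ← map_one (algebraMap K A), ← map_sub]
      exact (Ne.isUnit fun h => hα (by linear_combination (α + 1) * h)).map _
    have hau : IsUnit a ∨ a = 0 := by
      rcases eq_or_ne α 0 with h | h
      · exact Or.inr (by rw [ha, h, map_zero])
      · exact Or.inl ((Ne.isUnit h).map _)
    have hz0 : bs.repr (φ (bs 2)) 0 = 0 := by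
      rcases hau with h | h
      · exact h.mul_right_eq_zero.mp c0
      · obtain ⟨d0, d1, d2⟩ := C (φ (bs 1)) (φ (bs 2))
        rw [← LieEquiv.map_lie, hyz, ← LieEquiv.coe_toLinearEquiv, map_zero, map_zero, LieEquiv.coe_toLinearEquiv, a0] at d1
        simp only [Finsupp.zero_apply, zero_mul, mul_zero, mul_one, add_zero, zero_sub] at d1
        have hu := LinearEquiv.isUnit_det φ.toLinearEquiv bs bs
        rw [Matrix.det_fin_three] at hu
        simp only [LinearMap.toMatrix_apply, LinearEquiv.coe_coe, LieEquiv.coe_toLinearEquiv, a0] at hu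
        rw [h] at a2
        simp only [mul_zero, add_zero] at a2
        rw [a2] at hu
        refine hu.mul_right_eq_zero.mp ?_
        linear_combination (bs.repr (φ (bs 0)) 0 * bs.repr (φ (bs 2)) 2 - bs.repr (φ (bs 0)) 2 * bs.repr (φ (bs 2)) 0) * d1
    rw [hz0] at c1 c2
    have hd := det_unit bs bs φ a0 hz0
    have hD := isUnit_of_mul_isUnit_right hd
    have ht : bs.repr (φ (bs 0)) 0 = 1 := by
      have := (hD.mul hp).mul_right_eq_zero.mp (show _ * (1 - bs.repr (φ (bs 0)) 0) = 0 by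
        linear_combination bs.repr (φ (bs 2)) 2 * a1 - bs.repr (φ (bs 2)) 1 * a2 - bs.repr (φ (bs 1)) 2 * c1 + bs.repr (φ (bs 1)) 1 * c2)
      linear_combination -this
    rw [ht] at a2 c1
    have hY2 : bs.repr (φ (bs 1)) 2 = 0 := hm.mul_right_eq_zero.mp (by linear_combination -a2)
    have hZ1 : bs.repr (φ (bs 2)) 1 = 0 := hm.mul_right_eq_zero.mp (by linear_combination c1)
    rw [hY2, zero_mul, sub_zero] at hD
    refine ⟨bs.repr (φ (bs 0)) 1, bs.repr (φ (bs 0)) 2, bs.repr (φ (bs 1)) 1, bs.repr (φ (bs 2)) 2, isUnit_of_mul_isUnit_left hD, isUnit_of_mul_isUnit_right hD, ?_, ?_, ?_⟩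
    · conv_lhs => rw [vec3 bs (φ (bs 0)), ht, one_smul]
    · conv_lhs => rw [vec3 bs (φ (bs 1)), a0, hY2, zero_smul, zero_smul, zero_add, add_zero]
    · conv_lhs => rw [vec3 bs (φ (bs 2)), hz0, hZ1, zero_smul, zero_smul, zero_add, zero_add]
  · intro hα
    rw [show a = 1 by rw [ha, hα, map_one]] at a2 c0 c1 c2
    rw [one_mul] at c0
    rw [c0] at c1 c2
    have hd := det_unit bs bs φ a0 c0
    have hD := isUnit_of_mul_isUnit_right hd
    have ht : bs.repr (φ (bs 0)) 0 = 1 := by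
      have := hD.mul_right_eq_zero.mp (show _ * (1 - bs.repr (φ (bs 0)) 0) = 0 by
        linear_combination bs.repr (φ (bs 2)) 2 * a1 - bs.repr (φ (bs 2)) 1 * a2)
      linear_combination -this
    refine ⟨bs.repr (φ (bs 0)) 1, bs.repr (φ (bs 0)) 2, bs.repr (φ (bs 1)) 1, bs.repr (φ (bs 1)) 2, bs.repr (φ (bs 2)) 1, bs.repr (φ (bs 2)) 2, hD, ?_, ?_, ?_⟩
    · conv_lhs => rw [vec3 bs (φ (bs 0)), ht, one_smul]
    · conv_lhs => rw [vec3 bs (φ (bs 1)), a0, zero_smul, zero_add]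
    · conv_lhs => rw [vec3 bs (φ (bs 2)), c0, zero_smul, zero_add]

theorem l3_family_iff (k : Type u) [Field k] (t t' : k) (ht : t ≠ 0) (ht' : t' ≠ 0)
    (L : Type v) [LieRing L] [LieAlgebra k L] (b : Module.Basis (Fin 3) k L)
    (h01 : ⁅b 0, b 1⁆ = b 1) (h02 : ⁅b 0, b 2⁆ = t • b 2) (h12 : ⁅b 1, b 2⁆ = 0)
    (L' : Type w) [LieRing L'] [LieAlgebra k L'] (b' : Module.Basis (Fin 3) k L')
    (h01' : ⁅b' 0, b' 1⁆ = b' 1) (h02' : ⁅b' 0, b' 2⁆ = t' • b' 2) (h12' : ⁅b' 1, b' 2⁆ = 0) :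
    Nonempty (L ≃ₗ⁅k⁆ L') ↔ (t' = t ∨ t' = t⁻¹) := by
  constructor
  · rintro ⟨φ⟩
    have C := bracket_coords b' 1 0 0 t' (by simp [h01']) (by simp [h02']) h12'
    obtain ⟨a0, a1, a2⟩ := C (φ (b 0)) (φ (b 1))
    obtain ⟨c0, c1, c2⟩ := C (φ (b 0)) (φ (b 2))
    rw [← LieEquiv.map_lie, h01] at a0 a1 a2
    rw [← LieEquiv.map_lie, h02, ← LieEquiv.coe_toLinearEquiv, map_smul, LieEquiv.coe_toLinearEquiv, map_smul, Finsupp.smul_apply, smul_eq_mul] at c0 c1 c2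
    replace c0 := (mul_eq_zero.mp c0).resolve_left ht
    rw [a0] at a1 a2
    rw [c0] at c1 c2
    have hd := det_unit b b' φ a0 c0
    have hD := (isUnit_of_mul_isUnit_right hd).ne_zero
    set s := b'.repr (φ (b 0)) 0
    set Y1 := b'.repr (φ (b 1)) 1
    set Y2 := b'.repr (φ (b 1)) 2
    set Z1 := b'.repr (φ (b 2)) 1
    set Z2 := b'.repr (φ (b 2)) 2
    by_cases h : Y1 * Z2 = 0
    · right
      have hY2 : Y2 ≠ 0 := fun e => hD (by rw [h, e, zero_mul, sub_zero])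
      have hZ1 : Z1 ≠ 0 := fun e => hD (by rw [h, e, mul_zero, sub_zero])
      have e1 : s * t' = 1 := mul_left_cancel₀ hY2 (by linear_combination -a2)
      have e2 : s = t := mul_left_cancel₀ hZ1 (by linear_combination -c1)
      rw [e2] at e1
      exact eq_inv_of_mul_eq_one_right e1
    · left
      have e1 : s = 1 := mul_left_cancel₀ (left_ne_zero_of_mul h) (by linear_combination -a1)
      rw [e1] at c2
      exact mul_left_cancel₀ (right_ne_zero_of_mul h) (by linear_combination -c2)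
  · rintro (rfl | rfl)
    · refine lieEquiv_of_basis b (b.equiv b' (Equiv.refl _)) ?_ ?_ ?_ <;> simp [h01, h02, h12, h01', h02', h12']
    · let v : Fin 3 → k := ![t, 1, 1]
      have hv : ∀ i, IsUnit (v i) := fun i => by fin_cases i <;> simp [v, ht]
      refine lieEquiv_of_basis b (b.equiv (b'.isUnitSMul hv) (Equiv.swap 1 2)) ?_ ?_ ?_ <;>
        simp [h01, h02, h12, h01', h02', h12', v, Module.Basis.isUnitSMul_apply, Equiv.swap_apply_of_ne_of_ne, ht, ← lie_skew (b' 2) (b' 1)]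

theorem not_equiv_laurent (k : Type u) [Field k]
    (F : Type v) [LieRing F] [LieAlgebra (LaurentSeries k) F] (bF : Module.Basis (Fin 3) (LaurentSeries k) F)
    (hF01 : ⁅bF 0, bF 1⁆ = bF 2) (hF02 : ⁅bF 0, bF 2⁆ = (HahnSeries.single 1 (1 : k) : LaurentSeries k) • bF 1)
    (hF12 : ⁅bF 1, bF 2⁆ = 0)
    (L : Type w) [LieRing L] [LieAlgebra (LaurentSeries k) L] (bL : Module.Basis (Fin 3) (LaurentSeries k) L)
    (hL01 : ⁅bL 0, bL 1⁆ = bL 1) (hL02 : ⁅bL 0, bL 2⁆ = -bL 2) (hL12 : ⁅bL 1, bL 2⁆ = 0) :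
    IsEmpty (L ≃ₗ⁅LaurentSeries k⁆ F) := by
  refine ⟨fun φ => ?_⟩
  set X : LaurentSeries k := HahnSeries.single 1 (1 : k) with hX
  have C := bracket_coords bF 0 1 X 0 (by simp [hF01]) (by simp [hF02]) hF12
  obtain ⟨a0, a1, a2⟩ := C (φ (bL 0)) (φ (bL 1))
  obtain ⟨c0, c1, c2⟩ := C (φ (bL 0)) (φ (bL 2))
  rw [← LieEquiv.map_lie, hL01] at a0 a1 a2
  rw [← LieEquiv.map_lie, hL02, ← LieEquiv.coe_toLinearEquiv, map_neg, LieEquiv.coe_toLinearEquiv, map_neg, Finsupp.neg_apply] at c0 c1 c2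
  rw [neg_eq_zero] at c0
  rw [a0] at a1 a2
  have hd := det_unit bL bF φ a0 c0
  have hD := (isUnit_of_mul_isUnit_right hd).ne_zero
  set s := bF.repr (φ (bL 0)) 0
  have hY : bF.repr (φ (bL 1)) 1 ≠ 0 := by
    intro h
    rw [h] at a2
    exact hD (by rw [h, a2]; ring)
  have e : s * s * X = 1 := mul_left_cancel₀ hY (by linear_combination -a1 - s * X * a2)
  have hs : s ≠ 0 := left_ne_zero_of_mul (left_ne_zero_of_mul (e.trans_ne one_ne_zero))
  have := congrArg HahnSeries.order e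
  rw [HahnSeries.order_mul (mul_ne_zero hs hs) (HahnSeries.single_ne_zero one_ne_zero), HahnSeries.order_mul hs hs, HahnSeries.order_single one_ne_zero, HahnSeries.order_one] at this
  omega

end Groth.Agent.Quick8
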