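import Mathlib
import Groth.Prelude.Def_DualLC

set_option autoImplicit false
universe u v w

namespace Groth.Agent.Quick8
open Polynomial

theorem mem_range_of_eigen {G G' : Type u} [Group G] [Group G'] (f : G →* G')
    (A : Type u) [CommRing A] (α : G →₀ A) (g' : G') (l : A)
    (hne : Finsupp.mapDomain f α ≠ 0)
    (he : ∀ k : G', Finsupp.mapDomain f α (g'⁻¹ * k) = l * Finsupp.mapDomain f α k) :
    g' ∈ f.range := by
  classical
  set β := Finsupp.mapDomain f α
  obtain ⟨k, hk⟩ := Finsupp.ne_iff.mp hne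
  have h1 : ∀ x, β x ≠ 0 → x ∈ f.range := fun x hx => by
    have := Finsupp.mapDomain_support (Finsupp.mem_support_iff.mpr hx)
    obtain ⟨y, -, rfl⟩ := Finset.mem_image.mp this
    exact ⟨y, rfl⟩
  have h2 := he (g' * k)
  rw [inv_mul_cancel_left] at h2
  have h3 : β (g' * k) ≠ 0 := fun h => hk (by rw [h2, h, mul_zero]; rfl)
  exact (Subgroup.mul_mem_cancel_right _ (h1 k hk)).mp (h1 _ h3)

theorem projectiveCover_unique (R : Type u) [CommRing R] (M P P' : Type u) [AddCommGroup M] [Module R M] [AddCommGroup P] [Module R P] [AddCommGroup P'] [Module R P'] (f : P →ₗ[R] M) (f' : P' →ₗ[R] M) (hf : Dual2.IsProjectiveCover f) (hf' : Dual2.IsProjectiveCover f') : ∃ e : P ≃ₗ[R] P', f' ∘ₗ e.toLinearMap = f := by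
  haveI := hf.projective
  haveI := hf'.projective
  obtain ⟨g, hg⟩ := Module.projective_lifting_property f' f hf'.surjective
  have hgs : Function.Surjective g := LinearMap.range_eq_top.mp (hf'.essential _ (by
    rw [← LinearMap.range_comp, hg]; exact LinearMap.range_eq_top.mpr hf.surjective))
  obtain ⟨s, hs⟩ := Module.projective_lifting_property g LinearMap.id hgs
  have hss : Function.Surjective s := LinearMap.range_eq_top.mp (hf.essential _ (by
    rw [← LinearMap.range_comp, ← hg, LinearMap.comp_assoc, hs, LinearMap.comp_id]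
    exact LinearMap.range_eq_top.mpr hf'.surjective))
  have hgi : Function.Injective g := by
    intro a b h
    obtain ⟨a', rfl⟩ := hss a
    obtain ⟨b', rfl⟩ := hss b
    have h1 := fun x => LinearMap.congr_fun hs x
    simp only [LinearMap.comp_apply, LinearMap.id_apply] at h1
    rw [h1, h1] at h
    rw [h]
  exact ⟨LinearEquiv.ofBijective g ⟨hgi, hgs⟩, hg⟩

theorem bijective_of_mod_p (p : ℕ)
    {A B : Type u} [CommRing A] [CommRing B]
    [IsAdicComplete (Ideal.span {(p : A)}) A] [IsAdicComplete (Ideal.span {(p : B)}) B]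
    (hB : IsSMulRegular B (p : B)) (u : A →+* B)
    (hinj : ∀ a : A, u a ∈ Ideal.span {(p : B)} → a ∈ Ideal.span {(p : A)})
    (hsurj : ∀ b : B, ∃ a : A, b - u a ∈ Ideal.span {(p : B)}) :
    Function.Bijective u := by
  classical
  refine ⟨(injective_iff_map_eq_zero u).mpr fun a ha => ?_, fun b => ?_⟩
  · have key : ∀ n : ℕ, ∀ a, u a = 0 → (p : A) ^ n ∣ a := by
      intro n
      induction n with
      | zero => exact fun a _ => by simp
      | succ n ih =>
        intro a ha
        obtain ⟨a', rfl⟩ := Ideal.mem_span_singleton.mp (hinj a (by rw [ha]; exact zero_mem _))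
        have : u a' = 0 := hB (by simpa [smul_eq_mul] using ha)
        obtain ⟨c, rfl⟩ := ih a' this
        exact ⟨c, by ring⟩
    refine IsHausdorff.haus (I := Ideal.span {(p : A)}) inferInstance a fun n => ?_
    rw [SModEq.zero, Ideal.span_singleton_pow, smul_eq_mul, Ideal.mul_top, Ideal.mem_span_singleton]
    exact key n a ha
  · choose F hF using fun b => hsurj b
    choose G hG using fun b => Ideal.mem_span_singleton.mp (hF b)
    let r : ℕ → B := fun n => G^[n] b
    let s : ℕ → A := fun n => ∑ i ∈ Finset.range n, (p : A) ^ i * F (r i)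
    have hs : ∀ n, b - u (s n) = (p : B) ^ n * r n := by
      intro n
      induction n with
      | zero => simp [s, r]
      | succ n ih =>
        have h1 : r (n + 1) = G (r n) := Function.iterate_succ_apply' G n b
        simp only [s, Finset.sum_range_succ, map_add, map_mul, map_pow, map_natCast] at ih ⊢
        rw [h1]
        linear_combination ih + (p : B) ^ n * hG (r n)
    obtain ⟨L, hL⟩ := IsPrecomplete.prec (I := Ideal.span {(p : A)}) inferInstance (f := s) (by
      intro m n hmn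
      rw [SModEq.sub_mem, smul_eq_mul, Ideal.mul_top, Ideal.span_singleton_pow, Ideal.mem_span_singleton]
      simp only [s]
      rw [← Finset.sum_range_add_sum_Ico _ hmn, sub_add_cancel_left, dvd_neg]
      exact Finset.dvd_sum fun i hi => (pow_dvd_pow _ (Finset.mem_Ico.mp hi).1).mul_right _)
    refine ⟨L, (sub_eq_zero.mp (IsHausdorff.haus (I := Ideal.span {(p : B)}) inferInstance (b - u L) fun n => ?_)).symm⟩
    have h := hL n
    rw [SModEq.sub_mem, smul_eq_mul, Ideal.mul_top, Ideal.span_singleton_pow, Ideal.mem_span_singleton] at h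
    rw [SModEq.zero, smul_eq_mul, Ideal.mul_top, Ideal.span_singleton_pow, Ideal.mem_span_singleton]
    obtain ⟨c, hc⟩ := h
    refine ⟨r n + u c, ?_⟩
    have := congrArg u hc
    simp only [map_sub, map_mul, map_pow, map_natCast] at this
    linear_combination hs n + this

theorem isIntegral_div_iff {A : Type u} [CommRing A] (p : Ideal A) [p.IsPrime] (ζ v : A) (hv : v ∉ p) :
    IsIntegral (A ⧸ p)
        (algebraMap (A ⧸ p) (FractionRing (A ⧸ p)) (Ideal.Quotient.mk p ζ) /
          algebraMap (A ⧸ p) (FractionRing (A ⧸ p)) (Ideal.Quotient.mk p v)) ↔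
      ∃ (N : ℕ) (a : ℕ → A),
        ζ ^ N + ∑ i ∈ Finset.Icc 1 N, a i * ζ ^ (N - i) * v ^ i ∈ p := by
  classical
  let φ : A →+* FractionRing (A ⧸ p) := (algebraMap (A ⧸ p) _).comp (Ideal.Quotient.mk p)
  have hker : ∀ a, φ a = 0 ↔ a ∈ p := fun a => by
    simp [φ, Ideal.Quotient.eq_zero_iff_mem, map_eq_zero_iff _ (IsFractionRing.injective (A ⧸ p) (FractionRing (A ⧸ p)))]
  have hv0 : φ v ≠ 0 := fun h => hv ((hker v).mp h)
  show IsIntegral _ (φ ζ / φ v) ↔ _
  set x := φ ζ / φ v with hx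
  have hz : φ ζ = x * φ v := (div_mul_cancel₀ _ hv0).symm
  have key : ∀ (N : ℕ) (a : ℕ → A), φ (ζ ^ N + ∑ i ∈ Finset.Icc 1 N, a i * ζ ^ (N - i) * v ^ i) =
      φ v ^ N * (x ^ N + ∑ i ∈ Finset.Icc 1 N, φ (a i) * x ^ (N - i)) := by
    intro N a
    simp only [map_add, map_pow, map_sum, map_mul, hz, mul_add, Finset.mul_sum]
    congr 1
    · ring
    · refine Finset.sum_congr rfl fun i hi => ?_
      obtain ⟨j, rfl⟩ : ∃ j, N = j + i := ⟨N - i, by have := (Finset.mem_Icc.mp hi).2; omega⟩
      simp only [Nat.add_sub_cancel]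
      ring
  have reidx : ∀ (N : ℕ) (g : ℕ → FractionRing (A ⧸ p)), ∑ i ∈ Finset.Icc 1 N, g (N - i) = ∑ j ∈ Finset.range N, g j := by
    intro N g
    refine Finset.sum_nbij' (fun i => N - i) (fun j => N - j) ?_ ?_ ?_ ?_ ?_ <;> intro i hi <;>
      simp only [Finset.mem_coe, Finset.mem_Icc, Finset.mem_range] at hi ⊢ <;> omega
  constructor
  · rintro ⟨q, hq, hq0⟩
    choose l hl using fun j => Ideal.Quotient.mk_surjective (q.coeff j)
    refine ⟨q.natDegree, fun i => l (q.natDegree - i), (hker _).mp ?_⟩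
    rw [key, reidx _ (fun j => φ (l j) * x ^ j)]
    simp only [φ, RingHom.comp_apply, hl]
    rw [hq.as_sum, eval₂_add, eval₂_X_pow, eval₂_finsetSum] at hq0
    simp only [eval₂_mul, eval₂_C, eval₂_X_pow] at hq0
    rw [hq0, mul_zero]
  · rintro ⟨N, a, ha⟩
    have h0 := (mul_eq_zero.mp ((key N a).symm.trans ((hker _).mpr ha))).resolve_left (pow_ne_zero _ hv0)
    refine ⟨X ^ N + ∑ j ∈ Finset.range N, C (Ideal.Quotient.mk p (a (N - j))) * X ^ j, monic_X_pow_add ?_, ?_⟩
    · refine lt_of_le_of_lt (degree_sum_le _ _) ((Finset.sup_lt_iff (WithBot.bot_lt_coe N)).mpr fun j hj => ?_)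
      exact lt_of_le_of_lt (degree_C_mul_X_pow_le _ _) (WithBot.coe_lt_coe.mpr (Finset.mem_range.mp hj))
    · rw [eval₂_add, eval₂_X_pow, eval₂_finsetSum]
      simp only [eval₂_mul, eval₂_C, eval₂_X_pow]
      rw [← reidx N (fun j => algebraMap (A ⧸ p) _ (Ideal.Quotient.mk p (a (N - j))) * x ^ j)]
      rw [← h0]
      congr 1
      refine Finset.sum_congr rfl fun i hi => ?_
      rw [show N - (N - i) = i by have := (Finset.mem_Icc.mp hi).2; omega]
      rfl

theorem standardRep_two_blocks (k : Type u) [Field k] [CharZero k]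
    (r s : ℕ) (hr : 1 ≤ r) (hs : 1 ≤ s) :
    ∃ E : (Fin r ⊕ Fin s → k) →ₗ[k] (Fin r → k) × (Fin s → k) × k,
      (∀ (σ : Equiv.Perm (Fin r)) (τ : Equiv.Perm (Fin s)) (f : Fin r ⊕ Fin s → k),
        E (f ∘ ⇑(Equiv.sumCongr σ τ).symm) = ((E f).1 ∘ ⇑σ.symm, (E f).2.1 ∘ ⇑τ.symm, (E f).2.2)) ∧
      Set.BijOn E {f | ∑ i, f i = 0}
        ({g : Fin r → k | ∑ i, g i = 0} ×ˢ ({h : Fin s → k | ∑ i, h i = 0} ×ˢ Set.univ)) := by
  have hr' : (r : k) ≠ 0 := Nat.cast_ne_zero.mpr (by omega)
  have hs' : (s : k) ≠ 0 := Nat.cast_ne_zero.mpr (by omega)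
  let E : (Fin r ⊕ Fin s → k) →ₗ[k] (Fin r → k) × (Fin s → k) × k :=
    { toFun := fun f => (fun i => f (.inl i) - (∑ j, f (.inl j)) / r, fun i => f (.inr i) - (∑ j, f (.inr j)) / s, ∑ j, f (.inl j))
      map_add' := fun f g => by
        simp only [Pi.add_apply, Finset.sum_add_distrib, Prod.mk_add_mk]
        refine Prod.ext (funext fun i => ?_) (Prod.ext (funext fun i => ?_) rfl) <;> simp <;> ring
      map_smul' := fun c f => by
        simp only [Pi.smul_apply, smul_eq_mul, ← Finset.mul_sum, Prod.smul_mk, RingHom.id_apply]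
        refine Prod.ext (funext fun i => ?_) (Prod.ext (funext fun i => ?_) rfl) <;> simp <;> ring }
  refine ⟨E, fun σ τ f => ?_, ?_, ?_, ?_⟩
  · have e1 : ∑ j, f (.inl (σ.symm j)) = ∑ j, f (.inl j) := Equiv.sum_comp σ.symm (fun j => f (.inl j))
    have e2 : ∑ j, f (.inr (τ.symm j)) = ∑ j, f (.inr j) := Equiv.sum_comp τ.symm (fun j => f (.inr j))
    simp [E, e1, e2, Function.comp_def]
  · intro f _
    refine ⟨?_, ?_, trivial⟩ <;>
      simp [E, Finset.sum_sub_distrib, mul_div_cancel₀ _ hr', mul_div_cancel₀ _ hs']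
  · intro f hf g hg h
    simp only [Set.mem_ofPred_eq, Fintype.sum_sum_type] at hf hg
    simp only [E, LinearMap.coe_mk, AddHom.coe_mk, Prod.mk.injEq, funext_iff] at h
    obtain ⟨h1, h2, h3⟩ := h
    funext i
    rcases i with i | i
    · linear_combination h1 i + (1 / (r : k)) * h3
    · linear_combination h2 i + (1 / (s : k)) * hf - (1 / (s : k)) * hg - (1 / (s : k)) * h3
  · rintro ⟨g, h, c⟩ ⟨hg, hh, -⟩
    refine ⟨Sum.elim (fun i => g i + c / r) (fun i => h i - c / s), ?_, ?_⟩
    · simp only [Set.mem_ofPred_eq] at hg hh ⊢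
      simp [Fintype.sum_sum_type, Finset.sum_add_distrib, Finset.sum_sub_distrib, hg, hh, mul_div_cancel₀ _ hr', mul_div_cancel₀ _ hs']
    · simp only [Set.mem_ofPred_eq] at hg hh
      simp [E, Finset.sum_add_distrib, Finset.sum_sub_distrib, hg, hh, mul_div_cancel₀ _ hr', mul_div_cancel₀ _ hs']
      ext i; ring

end Groth.Agent.Quick8
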