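import Mathlib

set_option autoImplicit false
universe u v w

namespace Groth.Agent.Quick8
open Finset TensorProduct

theorem alt_sum_stirling : ∀ (k n : ℕ), (∑ j ∈ range (n + 1), (-1 : ℤ) ^ (n - j) * (n.choose j : ℤ) * (j : ℤ) ^ k) = (n.factorial : ℤ) * (Nat.stirlingSecond k n : ℤ) := by
  intro k
  induction k with
  | zero =>
    intro n
    rcases n with _ | n
    · simp [Nat.stirlingSecond_zero]
    · have := add_pow (1 : ℤ) (-1) (n + 1)
      simp at this
      simp only [pow_zero, mul_one, Nat.stirlingSecond_zero_succ, Nat.cast_zero, mul_zero]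
      rw [this]
  | succ k ih =>
    intro n
    rcases n with _ | n
    · simp [Nat.stirlingSecond_succ_zero]
    · set G := ∑ i ∈ range (n + 1), (-1 : ℤ) ^ (n - i) * (n.choose i : ℤ) * ((i : ℤ) + 1) ^ k with hG
      have h1 : (∑ j ∈ range (n + 2), (-1 : ℤ) ^ (n + 1 - j) * ((n + 1).choose j : ℤ) * (j : ℤ) ^ (k + 1)) = (n + 1) * G := by
        rw [sum_range_succ', hG, mul_sum]
        simp only [Nat.cast_zero, zero_pow (Nat.succ_ne_zero k), mul_zero, add_zero]
        refine sum_congr rfl fun i _ => ?_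
        have h : ((n + 1).choose (i + 1) : ℤ) * ((i : ℤ) + 1) = ((n : ℤ) + 1) * n.choose i := by exact_mod_cast (Nat.add_one_mul_choose_eq n i).symm
        rw [Nat.succ_sub_succ, pow_succ]
        push_cast
        linear_combination ((-1 : ℤ) ^ (n - i) * ((i : ℤ) + 1) ^ k) * h
      have h2 : (∑ j ∈ range (n + 2), (-1 : ℤ) ^ (n + 1 - j) * ((n + 1).choose j : ℤ) * (j : ℤ) ^ k) =
          G - ∑ j ∈ range (n + 1), (-1 : ℤ) ^ (n - j) * (n.choose j : ℤ) * (j : ℤ) ^ k := by
        have h3 : (∑ j ∈ range (n + 1), (-1 : ℤ) ^ (n - j) * (n.choose j : ℤ) * (j : ℤ) ^ k) =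
            -∑ j ∈ range (n + 2), (-1 : ℤ) ^ (n + 1 - j) * (n.choose j : ℤ) * (j : ℤ) ^ k := by
          rw [sum_range_succ _ (n + 1), Nat.choose_eq_zero_of_lt (Nat.lt_succ_self n)]
          simp only [Nat.cast_zero, mul_zero, zero_mul, add_zero]
          rw [← sum_neg_distrib]
          refine sum_congr rfl fun j hj => ?_
          rw [Nat.succ_sub (Nat.lt_succ_iff.mp (mem_range.mp hj)), pow_succ]
          ring
        rw [h3, sum_range_succ', sum_range_succ' (fun j => (-1 : ℤ) ^ (n + 1 - j) * (n.choose j : ℤ) * (j : ℤ) ^ k), hG]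
        simp only [Nat.succ_sub_succ, Nat.choose_succ_succ, Nat.cast_add, Nat.cast_one, Nat.choose_zero_right, mul_add, add_mul, sum_add_distrib]
        ring
      rw [h1, Nat.stirlingSecond_succ_succ, Nat.factorial_succ]
      have h4 := ih (n + 1)
      rw [h2, ih n, Nat.factorial_succ] at h4
      push_cast at h4 ⊢
      linear_combination ((n : ℤ) + 1) * h4

theorem alt_sum_cases (n k : ℕ) (hk : k ≤ n + 1) :
    (∑ j ∈ Finset.range (n + 1), (-1 : ℤ) ^ (n - j) * (n.choose j : ℤ) * (j : ℤ) ^ k) =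
      (if k = n + 1 then (((n + 1).choose 2 * n.factorial : ℕ) : ℤ)
        else if k = n then (n.factorial : ℤ) else 0) := by
  rw [alt_sum_stirling]
  split_ifs with h1 h2
  · subst h1; rw [Nat.stirlingSecond_succ_self_left]; push_cast; ring
  · subst h2; simp [Nat.stirlingSecond_self]
  · rw [Nat.stirlingSecond_eq_zero_of_lt (by omega)]; simp

theorem prod_adjacent (A : Type u) [CommRing A] (τ : A) (h : ℕ → A) :
    ∀ k, (∀ i, i < k + 1 → h i ^ 2 + τ * h i = 0) →
    ∏ i ∈ Finset.range k, (h i + h (i + 1) + τ) =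
      ∑ j ∈ Finset.range (k + 1), τ ^ (k - j) * (((Finset.range (k + 1)).val.map h).esymm j) := by
  classical
  let e : ℕ → ℕ → A := fun k j => ((Finset.range k).val.map h).esymm j
  have e0 : ∀ k, e k 0 = 1 := fun k => by simp [e, Multiset.esymm]
  have es : ∀ k j, e (k + 1) (j + 1) = e k (j + 1) + h k * e k j := by
    intro k j
    simp only [e, Finset.range_add_one, Finset.insert_val, Finset.notMem_range_self, Multiset.ndinsert_of_notMem, not_false_iff, Finset.mem_val, Multiset.map_cons]
    simp [Multiset.esymm, Multiset.powersetCard_cons, Multiset.map_map, Multiset.sum_map_mul_left]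
  have ebig : ∀ k j, k < j → e k j = 0 := by
    intro k j hj
    have : ((Finset.range k).val.map h).card < j := by simp [hj]
    show ((Finset.range k).val.map h).esymm j = 0
    rw [Multiset.esymm, Multiset.powersetCard_eq_empty _ this]
    simp
  let E : ℕ → A := fun k => ∑ j ∈ Finset.range (k + 1), τ ^ (k - j) * e (k + 1) j
  have hE : ∀ k, E (k + 1) = E k * (τ + h (k + 1)) + e (k + 1) (k + 1) := by
    intro k
    simp only [E]
    rw [Finset.sum_range_succ', e0]
    simp only [es (k + 1), mul_add, Finset.sum_add_distrib, Nat.succ_sub_succ, Nat.sub_zero]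
    have hsplit : ∑ x ∈ Finset.range (k + 1), τ ^ (k - x) * e (k + 1) (x + 1) + τ ^ (k + 1) * 1 =
        τ * (∑ j ∈ Finset.range (k + 1), τ ^ (k - j) * e (k + 1) j) + e (k + 1) (k + 1) := by
      rw [Finset.sum_range_succ, Nat.sub_self, pow_zero, one_mul, Finset.sum_range_succ' (fun j => τ ^ (k - j) * e (k + 1) j), e0, Nat.sub_zero, mul_add, Finset.mul_sum]
      have : ∀ x ∈ Finset.range k, τ * (τ ^ (k - (x + 1)) * e (k + 1) (x + 1)) = τ ^ (k - x) * e (k + 1) (x + 1) := by
        intro x hx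
        rw [← mul_assoc, ← pow_succ', show k - (x + 1) + 1 = k - x by have := Finset.mem_range.mp hx; omega]
      rw [Finset.sum_congr rfl this]
      ring
    have h2 : ∑ x ∈ Finset.range (k + 1), τ ^ (k - x) * (h (k + 1) * e (k + 1) x) = h (k + 1) * ∑ j ∈ Finset.range (k + 1), τ ^ (k - j) * e (k + 1) j := by
      rw [Finset.mul_sum]
      exact Finset.sum_congr rfl fun x _ => by ring
    rw [h2]
    linear_combination hsplit
  have etop : ∀ k, e (k + 1) (k + 1) = h k * e k k := fun k => by rw [es, ebig k (k + 1) (Nat.lt_succ_self k), zero_add]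
  intro k
  induction k with
  | zero => intro _; simp [Multiset.esymm]
  | succ k ih =>
    intro hr
    have ih' := ih (fun i hi => hr i (by omega))
    change _ = E k at ih'
    show _ = E (k + 1)
    rw [Finset.prod_range_succ, ih', hE]
    have : E k * h k = e (k + 1) (k + 1) := by
      rcases k with _ | m
      · simp [E, e0, etop]
      · rw [hE, etop (m + 1)]
        linear_combination E m * hr (m + 1) (by omega)
    linear_combination this

theorem mulVec_mem_iff {R : Type u} [CommRing R] {ι : Type v} [AddCommGroup ι]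
    (E : ι → AddSubgroup R) (h0 : E 0 = ⊤)
    (hmul : ∀ a b : ι, ∀ x ∈ E a, ∀ y ∈ E b, x * y ∈ E (a + b))
    {r : ℕ} (wβ wγ : Fin r → ι) (hsum : ∑ j, wβ j = ∑ i, wγ i)
    (ϑ : Matrix (Fin r) (Fin r) R) (hϑ : ∀ i j, ϑ i j ∈ E (wγ i - wβ j))
    (hdet : IsUnit ϑ.det) (u : Fin r → R) :
    (∀ j, u j ∈ E (wβ j)) ↔ ∀ i, ϑ.mulVec u i ∈ E (wγ i) := by
  classical
  constructor
  · intro hu i
    show ∑ j, ϑ i j * u j ∈ E (wγ i)
    refine sum_mem fun j _ => ?_
    have := hmul _ _ _ (hϑ i j) _ (hu j)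
    rwa [sub_add_cancel] at this
  · intro hv j
    have hprod : ∀ (s : Finset (Fin r)) (f : Fin r → R) (w : Fin r → ι), (∀ l ∈ s, f l ∈ E (w l)) → ∏ l ∈ s, f l ∈ E (∑ l ∈ s, w l) := by
      intro s f w
      induction s using Finset.induction_on with
      | empty => intro _; simp [h0]
      | insert a s ha ih =>
        intro h
        rw [Finset.prod_insert ha, Finset.sum_insert ha]
        exact hmul _ _ _ (h a (Finset.mem_insert_self a s)) _ (ih fun l hl => h l (Finset.mem_insert_of_mem hl))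
    have hadj : ∀ i, ϑ.adjugate j i ∈ E (wβ j - wγ i) := by
      intro i
      rw [Matrix.adjugate_apply, Matrix.det_apply]
      refine sum_mem fun σ _ => zsmul_mem ?_ _
      by_cases hσ : σ j = i
      · rw [← Finset.mul_prod_erase _ _ (Finset.mem_univ j), hσ, Matrix.updateRow_self, Pi.single_eq_same, one_mul]
        have he : ∑ l ∈ Finset.univ.erase j, (wγ (σ l) - wβ l) = wβ j - wγ i := by
          rw [Finset.sum_erase_eq_sub (f := fun l => wγ (σ l) - wβ l) (Finset.mem_univ j), Finset.sum_sub_distrib, Equiv.sum_comp σ wγ, hsum, sub_self, hσ, zero_sub, neg_sub]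
        rw [← he]
        refine hprod _ _ _ fun l hl => ?_
        rw [Matrix.updateRow_ne (fun h => (Finset.ne_of_mem_erase hl) (σ.injective (h.trans hσ.symm)))]
        exact hϑ _ _
      · rw [Finset.prod_eq_zero (Finset.mem_univ (σ.symm i))]
        · exact zero_mem _
        · rw [Equiv.apply_symm_apply, Matrix.updateRow_self, Pi.single_eq_of_ne]
          intro h
          exact hσ (by rw [← h, Equiv.apply_symm_apply])
    obtain ⟨d, hd⟩ := hdet.exists_left_inv
    have : u j = d * ∑ i, ϑ.adjugate j i * ϑ.mulVec u i := by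
      show u j = d * (ϑ.adjugate.mulVec (ϑ.mulVec u)) j
      rw [Matrix.mulVec_mulVec, Matrix.adjugate_mul, Matrix.smul_mulVec, Matrix.one_mulVec, Pi.smul_apply, smul_eq_mul, ← mul_assoc, hd, one_mul]
    rw [this, ← zero_add (wβ j)]
    refine hmul _ _ _ (by rw [h0]; trivial) _ (sum_mem fun i _ => ?_)
    have h3 := hmul _ _ _ (hadj i) _ (hv i)
    rwa [sub_add_cancel] at h3

theorem exists_monic_not_unit {k V : Type u} [Field k] [AddCommGroup V] [Module k V] [Nontrivial V] (hV : Module.rank k V < Cardinal.mk k) (T : Module.End k V) :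
    ∃ P : Polynomial k, P.Monic ∧ ¬ IsUnit (Polynomial.aeval T P) := by
  classical
  by_contra! hall
  obtain ⟨v, hv⟩ := exists_ne (0 : V)
  have hu : ∀ q : Polynomial k, q ≠ 0 → IsUnit (Polynomial.aeval T q) := by
    intro q hq
    have h := hall _ (Polynomial.monic_mul_leadingCoeff_inv hq)
    rw [map_mul, Polynomial.aeval_C] at h
    have hc : IsUnit (algebraMap k (Module.End k V) q.leadingCoeff⁻¹) := (Ne.isUnit (inv_ne_zero (Polynomial.leadingCoeff_ne_zero.mpr hq))).map _
    obtain ⟨c, hc⟩ := hc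
    rw [← hc] at h
    exact (Units.isUnit_mul_units _ c).mp h
  have hX : ∀ a : k, IsUnit (Polynomial.aeval T (Polynomial.X - Polynomial.C a)) := fun a => hu _ (Polynomial.X_sub_C_ne_zero a)
  let w : k → V := fun a => ((hX a).unit⁻¹ : (Module.End k V)ˣ).1 v
  have hw : ∀ a, Polynomial.aeval T (Polynomial.X - Polynomial.C a) (w a) = v := by
    intro a
    have := (hX a).mul_val_inv
    exact LinearMap.congr_fun this v
  have hli : LinearIndependent k w := by
    rw [linearIndependent_iff']
    intro s c hs a ha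
    let q : Polynomial k := ∑ b ∈ s, Polynomial.C (c b) * ∏ l ∈ s.erase b, (Polynomial.X - Polynomial.C l)
    have hq : Polynomial.aeval T q v = 0 := by
      have h1 : Polynomial.aeval T q v = Polynomial.aeval T (∏ l ∈ s, (Polynomial.X - Polynomial.C l)) (∑ b ∈ s, c b • w b) := by
        rw [map_sum, LinearMap.sum_apply, map_sum]
        refine Finset.sum_congr rfl fun b hb => ?_
        rw [← Finset.prod_erase_mul s _ hb, map_mul, map_mul, Module.End.mul_apply, Module.End.mul_apply, map_smul, hw, map_smul, Polynomial.aeval_C, Module.algebraMap_end_apply]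
      rw [h1, hs, map_zero]
    have hq0 : q = 0 := by
      by_contra h
      obtain ⟨U, hU⟩ := hu q h
      have := congrArg ((U⁻¹ : (Module.End k V)ˣ).1) hq
      rw [map_zero, ← Module.End.mul_apply, ← hU, Units.inv_mul, Module.End.one_apply] at this
      exact hv this
    have := congrArg (Polynomial.eval a) hq0
    simp only [q, Polynomial.eval_finsetSum, Polynomial.eval_zero, Polynomial.eval_mul, Polynomial.eval_C, Polynomial.eval_prod, Polynomial.eval_sub, Polynomial.eval_X] at this
    rw [Finset.sum_eq_single a (fun b _ hb => by rw [Finset.prod_eq_zero (Finset.mem_erase.mpr ⟨hb.symm, ha⟩) (sub_self a), mul_zero]) (fun h => absurd ha h)] at this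
    exact (mul_eq_zero.mp this).resolve_right (Finset.prod_ne_zero_iff.mpr fun l hl => sub_ne_zero.mpr (Finset.ne_of_mem_erase hl).symm)
  exact not_lt.mpr hli.cardinal_le_rank hV

theorem section_lift (S R : Type u) [CommRing S] [CommRing R] [Algebra S R]
    (hSR : Function.Surjective (algebraMap S R))
    (P₁ : Type v) [AddCommGroup P₁] [Module S P₁]
    (P₂ : Type w) [AddCommGroup P₂] [Module S P₂] [Module.Projective S P₂]
    (π : P₁ →ₗ[S] P₂) (hπ : Function.Surjective π)
    (σ' : R ⊗[S] P₂ →ₗ[R] R ⊗[S] P₁) (hσ' : (π.baseChange R).comp σ' = LinearMap.id) :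
    ∃ σ : P₂ →ₗ[S] P₁, π.comp σ = LinearMap.id ∧ σ.baseChange R = σ' := by
  let m1 := TensorProduct.mk S R P₁ 1
  let m2 := TensorProduct.mk S R P₂ 1
  have hm1 : Function.Surjective m1 := TensorProduct.mk_surjective S P₁ R hSR
  obtain ⟨σ0, hσ0⟩ := Module.projective_lifting_property m1 ((σ'.restrictScalars S).comp m2) hm1
  have hδ : ∀ x, π (σ0 x) - x ∈ LinearMap.ker m2 := by
    intro x
    rw [LinearMap.mem_ker, map_sub, sub_eq_zero]
    have h := LinearMap.congr_fun hσ0 x
    simp only [LinearMap.comp_apply, LinearMap.coe_restrictScalars] at h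
    show (1 : R) ⊗ₜ[S] π (σ0 x) = 1 ⊗ₜ[S] x
    rw [← LinearMap.baseChange_tmul π (1 : R), show (1 : R) ⊗ₜ[S] σ0 x = σ' (1 ⊗ₜ[S] x) from h, ← LinearMap.comp_apply, hσ', LinearMap.id_apply]
  let πN : LinearMap.ker m1 →ₗ[S] LinearMap.ker m2 := π.restrict (fun x hx => by
    show (1 : R) ⊗ₜ[S] π x = 0
    rw [← LinearMap.baseChange_tmul π (1 : R), show (1 : R) ⊗ₜ[S] x = 0 from hx, map_zero])
  have hπN : Function.Surjective πN := by
    rintro ⟨y, hy⟩
    obtain ⟨x, rfl⟩ := hπ y
    have hex := lTensor_exact R (LinearMap.exact_subtype_ker_map π) hπ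
    obtain ⟨t, ht⟩ := (hex ((1 : R) ⊗ₜ[S] x)).mp (by rw [LinearMap.lTensor_tmul]; exact hy)
    obtain ⟨κ, rfl⟩ := TensorProduct.mk_surjective S (LinearMap.ker π) R hSR t
    refine ⟨⟨x - κ.1, ?_⟩, Subtype.ext ?_⟩
    · show (1 : R) ⊗ₜ[S] (x - κ.1) = 0
      rw [TensorProduct.tmul_sub, ← ht]
      exact sub_self _
    · show π (x - κ.1) = π x
      rw [map_sub, LinearMap.mem_ker.mp κ.2, sub_zero]
  obtain ⟨ε, hε⟩ := Module.projective_lifting_property πN ((π.comp σ0 - LinearMap.id).codRestrict (LinearMap.ker m2) hδ) hπN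
  let σ : P₂ →ₗ[S] P₁ := σ0 - (LinearMap.ker m1).subtype.comp ε
  refine ⟨σ, LinearMap.ext fun x => ?_, ?_⟩
  · have h := congrArg Subtype.val (LinearMap.congr_fun hε x)
    show π (σ0 x - (ε x).1) = x
    rw [map_sub]
    change π (ε x).1 = π (σ0 x) - x at h
    rw [h, sub_sub_cancel]
  · refine TensorProduct.AlgebraTensorModule.ext fun r x => ?_
    rw [show r ⊗ₜ[S] x = r • ((1 : R) ⊗ₜ[S] x) by rw [TensorProduct.smul_tmul', smul_eq_mul, mul_one], map_smul, map_smul]
    congr 1
    show (1 : R) ⊗ₜ[S] (σ0 x - (ε x).1) = _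
    rw [TensorProduct.tmul_sub, show (1 : R) ⊗ₜ[S] (ε x).1 = 0 from (ε x).2, sub_zero]
    exact LinearMap.congr_fun hσ0 x

end Groth.Agent.Quick8
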