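import Mathlib
import Groth.Agent.Quick8.F

set_option autoImplicit false
universe u v

namespace Groth.Agent.Quick8
open TensorProduct

theorem central_auts {E : Type u} {G : Type v} [Group E] [Group G]
    (f : E →* G) (hf : Function.Surjective f) (hker : f.ker ≤ Subgroup.center E) :
    (∀ χ : G →* f.ker, ∃ α : E →* E, f.comp α = f ∧ (∀ a ∈ f.ker, α a = a) ∧
        ∀ e : E, α e = (χ (f e) : E) * e) ∧
      ∀ α : E →* E, f.comp α = f → (∀ a ∈ f.ker, α a = a) →
        ∃! χ : G →* f.ker, ∀ e : E, α e = (χ (f e) : E) * e := by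
  have hc : ∀ (c : f.ker) (e : E), (c : E) * e = e * c := fun c e => ((Subgroup.mem_center_iff.mp (hker c.2)) e).symm
  refine ⟨fun χ => ⟨MonoidHom.mk' (fun e => (χ (f e) : E) * e) fun a b => ?_, ?_, ?_, fun e => rfl⟩, fun α hα hfix => ?_⟩
  · show (χ (f (a * b)) : E) * (a * b) = (χ (f a) : E) * a * ((χ (f b) : E) * b)
    rw [map_mul, map_mul, Subgroup.coe_mul, show (χ (f a) : E) * (χ (f b)) * (a * b) = (χ (f a) : E) * ((χ (f b) : E) * a) * b by group, hc (χ (f b)) a]
    group
  · ext e
    show f ((χ (f e) : E) * e) = f e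
    rw [map_mul, MonoidHom.mem_ker.mp (χ (f e)).2, one_mul]
  · intro a ha
    show (χ (f a) : E) * a = a
    rw [MonoidHom.mem_ker.mp ha, map_one, Subgroup.coe_one, one_mul]
  · have hmem : ∀ e, α e * e⁻¹ ∈ f.ker := fun e => by
      rw [MonoidHom.mem_ker, map_mul, map_inv, ← MonoidHom.comp_apply, hα, mul_inv_cancel]
    let g : E →* f.ker := MonoidHom.mk' (fun e => ⟨α e * e⁻¹, hmem e⟩) fun a b => Subtype.ext (by
      show α (a * b) * (a * b)⁻¹ = α a * a⁻¹ * (α b * b⁻¹)
      have := hc ⟨α b * b⁻¹, hmem b⟩ a⁻¹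
      simp only at this
      rw [map_mul, mul_inv_rev, mul_assoc (α a) a⁻¹, ← this]
      group)
    have hgk : f.ker ≤ g.ker := fun a ha => by
      rw [MonoidHom.mem_ker]; exact Subtype.ext (show α a * a⁻¹ = 1 by rw [hfix a ha, mul_inv_cancel])
    refine ⟨MonoidHom.liftOfSurjective f hf ⟨g, hgk⟩, fun e => ?_, fun χ hχ => ?_⟩
    · rw [MonoidHom.liftOfRightInverse_comp_apply]
      show α e = α e * e⁻¹ * e
      rw [inv_mul_cancel_right]
    · refine MonoidHom.ext fun y => ?_
      obtain ⟨e, rfl⟩ := hf y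
      rw [MonoidHom.liftOfRightInverse_comp_apply]
      exact Subtype.ext (show (χ (f e) : E) = α e * e⁻¹ by rw [hχ e, mul_inv_cancel_right])

theorem mul_pow_eq_sum (A : Type u) [CommRing A] (x y : A) (n : ℕ) :
    ((n + 1).factorial : A) * x * y ^ n =
      (∑ j ∈ Finset.range (n + 1), (-1 : A) ^ (n - j) * (n.choose j : A) * (x + (j : A) * y) ^ (n + 1))
        - ((n * (n + 1).factorial / 2 : ℕ) : A) * y ^ (n + 1) := by
  have hexp : ∀ j : ℕ, (x + (j : A) * y) ^ (n + 1) = ∑ m ∈ Finset.range (n + 2), ((n + 1).choose m : A) * x ^ (n + 1 - m) * y ^ m * (j : A) ^ m := by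
    intro j
    rw [add_comm x, add_pow]
    exact Finset.sum_congr rfl fun m _ => by rw [mul_pow]; ring
  have hS : ∀ m, m ≤ n + 1 → ∑ j ∈ Finset.range (n + 1), (-1 : A) ^ (n - j) * (n.choose j : A) * (j : A) ^ m =
      (if m = n + 1 then (((n + 1).choose 2 * n.factorial : ℕ) : A) else if m = n then (n.factorial : A) else 0) := by
    intro m hm
    have := congrArg (Int.castRingHom A) (alt_sum_cases n m hm)
    rw [map_sum] at this
    simp only [map_mul, map_pow, map_neg, map_one, map_natCast] at this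
    rw [this]
    split_ifs <;> simp
  simp only [hexp, Finset.mul_sum]
  rw [Finset.sum_comm]
  have hcol : ∀ m ∈ Finset.range (n + 2), ∑ j ∈ Finset.range (n + 1), (-1 : A) ^ (n - j) * (n.choose j : A) * (((n + 1).choose m : A) * x ^ (n + 1 - m) * y ^ m * (j : A) ^ m) =
      ((n + 1).choose m : A) * x ^ (n + 1 - m) * y ^ m * (if m = n + 1 then (((n + 1).choose 2 * n.factorial : ℕ) : A) else if m = n then (n.factorial : A) else 0) := by
    intro m hm
    rw [← hS m (by have := Finset.mem_range.mp hm; omega), Finset.mul_sum]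
    exact Finset.sum_congr rfl fun j _ => by ring
  rw [Finset.sum_congr rfl hcol, Finset.sum_range_succ, Finset.sum_range_succ, Finset.sum_eq_zero fun m hm => by
    have := Finset.mem_range.mp hm
    rw [if_neg (by omega), if_neg (by omega), mul_zero]]
  rw [if_neg (by omega), if_pos rfl, if_pos rfl, Nat.choose_succ_self_right, Nat.choose_self, Nat.add_sub_cancel_left, Nat.sub_self]
  have hnat : (n + 1).choose 2 * n.factorial = n * (n + 1).factorial / 2 := by
    rw [Nat.choose_two_right, Nat.add_sub_cancel, Nat.factorial_succ, ← Nat.mul_div_right_comm (Nat.two_dvd_mul_add_one n |> fun h => by rwa [mul_comm] at h)]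
    congr 1
    ring
  rw [hnat, Nat.factorial_succ]
  push_cast
  ring

theorem homology_fix (k : Type u) [Field k]
    (g : Matrix (Fin 3) (Fin 3) k) (hg : IsUnit g.det) :
    (∀ v : Fin 3 → k, v 0 = 0 → ∃ c : k, Matrix.vecMul v g = c • v) ↔
      ∃ c α β γ : k, c ≠ 0 ∧ g = c • !![α, β, γ; 0, 1, 0; 0, 0, 1] := by
  constructor
  · intro h
    obtain ⟨c1, h1⟩ := h ![0, 1, 0] rfl
    obtain ⟨c2, h2⟩ := h ![0, 0, 1] rfl
    obtain ⟨c3, h3⟩ := h ![0, 1, 1] rfl
    simp only [funext_iff, Fin.forall_fin_succ, Matrix.vecMul, dotProduct, Fin.sum_univ_three] at h1 h2 h3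
    simp at h1 h2 h3
    obtain ⟨a0, a1, a2⟩ := h1
    obtain ⟨b0, b1, b2⟩ := h2
    obtain ⟨-, e1, e2⟩ := h3
    have hc : c1 = c2 := by
      have p1 : c1 = c3 := by linear_combination e1 - a1 - b1
      have p2 : c2 = c3 := by linear_combination e2 - a2 - b2
      rw [p1, p2]
    have hne : c1 ≠ 0 := by
      intro h0
      rw [Matrix.det_fin_three] at hg
      simp [a0, a1, a2, h0] at hg
    refine ⟨c1, g 0 0 / c1, g 0 1 / c1, g 0 2 / c1, hne, ?_⟩
    ext i j
    fin_cases i <;> fin_cases j <;> simp [a0, a1, a2, b0, b1, b2, ← hc, mul_div_cancel₀ _ hne]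
  · rintro ⟨c, α, β, γ, -, rfl⟩ v hv
    refine ⟨c, funext fun j => ?_⟩
    fin_cases j <;> simp [Matrix.vecMul, dotProduct, Fin.sum_univ_three, hv, mul_comm]

theorem card_residue (d : ℕ) (k : Type u) [Field k]
    (φ : (Polynomial ℤ ⧸ Ideal.span {(∏ j ∈ Finset.range (d + 1), ∏ i ∈ Finset.range j,
        ((Polynomial.X : Polynomial ℤ) ^ i - Polynomial.X ^ j)) - 1}) →+* k) :
    ((d + 1 : ℕ) : Cardinal) ≤ Cardinal.mk k := by
  let ψ := φ.comp (Ideal.Quotient.mk _)
  have h1 : ψ (∏ j ∈ Finset.range (d + 1), ∏ i ∈ Finset.range j, ((Polynomial.X : Polynomial ℤ) ^ i - Polynomial.X ^ j)) = 1 := by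
    rw [← sub_eq_zero, ← map_one ψ, ← map_sub]
    show φ _ = 0
    rw [Ideal.Quotient.eq_zero_iff_mem.mpr (Ideal.mem_span_singleton_self _), map_zero]
  simp only [map_prod, map_sub, map_pow] at h1
  have hinj : Function.Injective (fun i : Fin (d + 1) => ψ Polynomial.X ^ (i : ℕ)) := by
    have key : ∀ a b : Fin (d + 1), (a : ℕ) < b → ψ Polynomial.X ^ (a : ℕ) ≠ ψ Polynomial.X ^ (b : ℕ) := by
      intro a b hab e
      rw [Finset.prod_eq_zero (Finset.mem_range.mpr b.2) (Finset.prod_eq_zero (Finset.mem_range.mpr hab) (sub_eq_zero.mpr e))] at h1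
      exact zero_ne_one h1
    intro a b h
    rcases lt_trichotomy (a : ℕ) b with hab | hab | hab
    · exact absurd h (key a b hab)
    · exact Fin.ext hab
    · exact absurd h.symm (key b a hab)
  have := Cardinal.mk_le_of_injective (Function.Injective.comp hinj (Equiv.ulift.{u}).injective)
  rwa [Cardinal.mk_uLift, Cardinal.mk_fin, Cardinal.lift_natCast] at this

theorem exists_nilp (k E K : Type u) [Field k] [Field E]
    [Algebra k E] [FiniteDimensional k E] [Field K] [Algebra k K] [IsAlgClosure k K]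
    (h : ¬ Algebra.IsSeparable k E) : ∃ x : E ⊗[k] K, x ≠ 0 ∧ IsNilpotent x := by
  classical
  haveI := IsAlgClosure.isAlgClosed (R := k) (K := K)
  obtain ⟨a, ha⟩ : ∃ a : E, ¬ IsSeparable k a := by
    by_contra! hh
    exact h ⟨hh⟩
  set P := (minpoly k a).map (algebraMap k K) with hPdef
  have hai : IsIntegral k a := Algebra.IsIntegral.isIntegral a
  have hP : P.Monic := (minpoly.monic hai).map _
  have hns : ¬ P.Separable := fun hs => ha (Polynomial.separable_map (algebraMap k K) |>.mp hs)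
  obtain ⟨r, hr1, hr2⟩ : ∃ r, P.eval r = 0 ∧ P.derivative.eval r = 0 := by
    by_contra! hh
    apply hns
    refine _root_.isCoprime_of_dvd _ _ (fun hz => hP.ne_zero hz.1) fun z hz hz0 h1 h2 => ?_
    obtain ⟨r, hr⟩ := IsAlgClosed.exists_root z (fun hd => hz (Polynomial.isUnit_iff_degree_eq_zero.mpr hd))
    exact hh r (Polynomial.eval_eq_zero_of_dvd_of_eval_eq_zero h1 hr) (Polynomial.eval_eq_zero_of_dvd_of_eval_eq_zero h2 hr)
  obtain ⟨q, hq⟩ := Polynomial.dvd_iff_isRoot.mpr hr1
  have hq1 : q.eval r = 0 := by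
    rw [hq, Polynomial.derivative_mul] at hr2
    simpa using hr2
  obtain ⟨q', hq'⟩ := Polynomial.dvd_iff_isRoot.mpr hq1
  let Ψ : Polynomial K →ₐ[k] E ⊗[k] K :=
    { Polynomial.eval₂RingHom (Algebra.TensorProduct.includeRight : K →ₐ[k] E ⊗[k] K).toRingHom (a ⊗ₜ 1) with
      commutes' := fun c => by simp [IsScalarTower.algebraMap_apply k K (Polynomial K)] }
  have hΨ : ∀ s : Polynomial k, Ψ (s.map (algebraMap k K)) = (Polynomial.aeval a s) ⊗ₜ 1 := by
    intro s
    show Polynomial.eval₂ _ _ (s.map _) = _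
    rw [Polynomial.eval₂_map]
    induction s using Polynomial.induction_on' with
    | add p1 p2 e1 e2 => rw [Polynomial.eval₂_add, e1, e2, map_add, add_tmul]
    | monomial n c => simp [Algebra.smul_def, Algebra.TensorProduct.tmul_pow]
  refine ⟨Ψ q, fun h0 => ?_, 2, ?_⟩
  · have hqd : q.natDegree < (minpoly k a).natDegree := by
      have hd : P.natDegree = (minpoly k a).natDegree := Polynomial.natDegree_map _
      rw [← hd, hq, Polynomial.natDegree_mul (Polynomial.X_sub_C_ne_zero r) (fun e => hP.ne_zero (by rw [hq, e, mul_zero])), Polynomial.natDegree_X_sub_C]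
      omega
    set n := (minpoly k a).natDegree
    have hli : LinearIndependent k (fun i : Fin n => a ^ (i : ℕ)) := linearIndependent_pow a
    have hall : ∀ i : Fin n, q.coeff i = 0 := by
      intro i
      obtain ⟨φ, hφ⟩ := LinearMap.exists_extend ((Finsupp.lapply i).comp hli.repr)
      have hval : ∀ j : Fin n, φ (a ^ (j : ℕ)) = if j = i then 1 else 0 := by
        intro j
        have := LinearMap.congr_fun hφ ⟨a ^ (j : ℕ), Submodule.subset_span ⟨j, rfl⟩⟩
        rw [LinearMap.comp_apply, LinearMap.comp_apply, hli.repr_eq_single j _ rfl] at this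
        simpa [Finsupp.single_apply] using this
      let Φ : E ⊗[k] K →ₗ[k] K := (TensorProduct.lid k K).toLinearMap ∘ₗ φ.rTensor K
      have hrep : Ψ q = ∑ j : Fin n, (a ^ (j : ℕ)) ⊗ₜ[k] q.coeff j := by
        show Polynomial.eval₂ _ _ q = _
        rw [Polynomial.eval₂_eq_sum_range' _ hqd, ← Fin.sum_univ_eq_sum_range (fun j => (Algebra.TensorProduct.includeRight : K →ₐ[k] E ⊗[k] K).toRingHom (q.coeff j) * (a ⊗ₜ[k] (1 : K)) ^ j) n]
        exact Finset.sum_congr rfl fun j _ => by simp [Algebra.TensorProduct.tmul_pow]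
      have := congrArg Φ (hrep.symm.trans h0)
      simp only [map_sum, map_zero, Φ, LinearMap.comp_apply, LinearMap.rTensor_tmul, hval, LinearEquiv.coe_coe, TensorProduct.lid_tmul] at this
      simpa [ite_smul] using this
    exact hP.ne_zero (by
      rw [hq, show q = 0 from Polynomial.ext fun i => by
        rcases lt_or_ge i n with hi | hi
        · exact hall ⟨i, hi⟩
        · rw [Polynomial.coeff_eq_zero_of_natDegree_lt (by omega), Polynomial.coeff_zero], mul_zero])
  · have : q ^ 2 = P * q' := by rw [sq, hq]; nth_rewrite 1 [hq']; ring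
    rw [← map_pow, this, map_mul, hPdef, hΨ, minpoly.aeval, zero_tmul, zero_mul]

end Groth.Agent.Quick8
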