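import Mathlib

set_option autoImplicit false
universe u v

namespace Groth.Agent.Quick8
open Finset

theorem young_euler (μ : YoungDiagram) (hμ : μ ≠ ⊥) :
    μ.cells.card + (μ.cells.filter (fun c => (c.1 + 1, c.2 + 1) ∈ μ)).card =
      (μ.cells.filter (fun c => (c.1 + 1, c.2) ∈ μ)).card + (μ.cells.filter (fun c => (c.1, c.2 + 1) ∈ μ)).card + 1 := by
  have h00 : ((0, 0) : ℕ × ℕ) ∈ μ := by
    by_contra h
    apply hμ
    ext c
    simp only [YoungDiagram.cells_bot, Finset.notMem_empty, iff_false]
    intro hc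
    exact h (μ.up_left_mem (Nat.zero_le _) (Nat.zero_le _) (by exact hc : (c.1, c.2) ∈ μ))
  have hsh : ∀ i j : ℕ, (μ.cells.filter (fun c => (c.1 + i, c.2 + j) ∈ μ)).card = (μ.cells.filter (fun c => i ≤ c.1 ∧ j ≤ c.2)).card := by
    intro i j
    refine Finset.card_nbij' (fun c => (c.1 + i, c.2 + j)) (fun c => (c.1 - i, c.2 - j)) ?_ ?_ ?_ ?_
    · intro c hc
      simp only [Finset.mem_coe, Finset.mem_filter, YoungDiagram.mem_cells] at hc ⊢
      exact ⟨hc.2, Nat.le_add_left _ _, Nat.le_add_left _ _⟩
    · intro c hc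
      simp only [Finset.mem_coe, Finset.mem_filter, YoungDiagram.mem_cells] at hc ⊢
      refine ⟨μ.up_left_mem (Nat.sub_le _ _) (Nat.sub_le _ _) hc.1, ?_⟩
      rw [Nat.sub_add_cancel hc.2.1, Nat.sub_add_cancel hc.2.2]
      exact hc.1
    · intro c _; simp
    · intro c hc
      simp only [Finset.mem_coe, Finset.mem_filter] at hc
      exact Prod.ext (Nat.sub_add_cancel hc.2.1) (Nat.sub_add_cancel hc.2.2)
  have e11 := hsh 1 1
  have e10 := hsh 1 0
  have e01 := hsh 0 1
  simp only [add_zero] at e10 e01
  rw [e11, e10, e01]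
  simp only [Nat.zero_le, and_true, true_and]
  set V := μ.cells
  have hu : V.filter (fun c => 1 ≤ c.1) ∪ V.filter (fun c => 1 ≤ c.2) = V.erase (0, 0) := by
    ext c
    simp only [Finset.mem_union, Finset.mem_filter, Finset.mem_erase, ne_eq, Prod.ext_iff]
    constructor
    · rintro (⟨h1, h2⟩ | ⟨h1, h2⟩) <;> exact ⟨by omega, h1⟩
    · rintro ⟨h1, h2⟩
      rcases Nat.eq_zero_or_pos c.1 with h | h
      · exact Or.inr ⟨h2, by omega⟩
      · exact Or.inl ⟨h2, h⟩
  have hi : V.filter (fun c => 1 ≤ c.1) ∩ V.filter (fun c => 1 ≤ c.2) = V.filter (fun c => 1 ≤ c.1 ∧ 1 ≤ c.2) := by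
    rw [Finset.filter_inter, Finset.inter_filter, Finset.inter_self, Finset.filter_filter]
    congr 1; ext c; tauto
  have := Finset.card_union_add_card_inter (V.filter (fun c => 1 ≤ c.1)) (V.filter (fun c => 1 ≤ c.2))
  rw [hu, hi, Finset.card_erase_of_mem h00] at this
  have hpos : 0 < V.card := Finset.card_pos.mpr ⟨_, h00⟩
  have hVc : V.card = μ.cells.card := rfl
  omega

theorem bigWitt_prod (R : Type u) [CommRing R] (x : PowerSeries R) (hx : PowerSeries.constantCoeff x = 1) :
    ∃! α : ℕ → R, ∀ N : ℕ,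
      PowerSeries.trunc (N + 2) x =
        PowerSeries.trunc (N + 2) (∏ i ∈ Finset.range (N + 1),
          (1 - PowerSeries.C (α i) * PowerSeries.X ^ (i + 1) : PowerSeries R)) := by
  classical
  let Q : (ℕ → R) → ℕ → PowerSeries R := fun α N => ∏ i ∈ Finset.range N, (1 - PowerSeries.C (α i) * PowerSeries.X ^ (i + 1))
  have hQ1 : ∀ α N, PowerSeries.coeff 0 (Q α N) = 1 := fun α N => by simp [Q, map_prod]
  have hstep : ∀ α N j, j ≤ N + 1 → PowerSeries.coeff j (Q α (N + 1)) = PowerSeries.coeff j (Q α N) - if j = N + 1 then α N else 0 := by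
    intro α N j hj
    show PowerSeries.coeff j (∏ i ∈ Finset.range (N + 1), _) = _
    rw [Finset.prod_range_succ]
    show PowerSeries.coeff j (Q α N * (1 - PowerSeries.C (α N) * PowerSeries.X ^ (N + 1))) = _
    rw [mul_sub, mul_one, map_sub]
    congr 1
    rw [mul_left_comm, PowerSeries.coeff_C_mul, PowerSeries.coeff_mul_X_pow']
    split_ifs with h1 h2 h3
    · rw [h2, Nat.sub_self, hQ1, mul_one]
    · omega
    · omega
    · rw [mul_zero]
  have iff : ∀ α, (∀ N, PowerSeries.trunc (N + 2) x = PowerSeries.trunc (N + 2) (Q α (N + 1))) ↔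
      ∀ N, α N = PowerSeries.coeff (N + 1) (Q α N) - PowerSeries.coeff (N + 1) x := by
    intro α
    constructor
    · intro h N
      have := congrArg (fun p => Polynomial.coeff p (N + 1)) (h N)
      simp only [PowerSeries.coeff_trunc, show N + 1 < N + 2 by omega, if_true] at this
      rw [this, hstep α N (N + 1) le_rfl, if_pos rfl]; ring
    · intro h N
      have main : ∀ M j, j ≤ M → PowerSeries.coeff j (Q α M) = PowerSeries.coeff j x := by
        intro M
        induction M with
        | zero =>
          intro j hj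
          obtain rfl : j = 0 := by omega
          rw [hQ1, PowerSeries.coeff_zero_eq_constantCoeff_apply, hx]
        | succ M ih =>
          intro j hj
          rw [hstep α M j hj]
          rcases Nat.lt_or_ge j (M + 1) with hlt | hge
          · rw [if_neg (by omega), sub_zero, ih j (by omega)]
          · obtain rfl : j = M + 1 := by omega
            rw [if_pos rfl, h M]; ring
      ext j
      simp only [PowerSeries.coeff_trunc]
      split_ifs with hj
      · exact (main (N + 1) j (by omega)).symm
      · rfl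
  let P : ℕ → PowerSeries R := fun N => Nat.rec 1 (fun N PN => PN * (1 - PowerSeries.C (PowerSeries.coeff (N + 1) PN - PowerSeries.coeff (N + 1) x) * PowerSeries.X ^ (N + 1))) N
  let a : ℕ → R := fun N => PowerSeries.coeff (N + 1) (P N) - PowerSeries.coeff (N + 1) x
  have hP : ∀ N, Q a N = P N := by
    intro N
    induction N with
    | zero => simp [Q, P]
    | succ N ih =>
      show (∏ i ∈ Finset.range (N + 1), _) = _
      rw [Finset.prod_range_succ]
      show Q a N * _ = _
      rw [ih]
  refine ⟨a, (iff a).mpr fun N => by rw [hP], fun β hβ => ?_⟩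
  funext N
  induction N using Nat.strong_induction_on with
  | _ N ih =>
    rw [(iff β).mp hβ N, show Q β N = P N from by
      rw [← hP]
      exact Finset.prod_congr rfl fun i hi => by rw [ih i (Finset.mem_range.mp hi)]]

end Groth.Agent.Quick8
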