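import Mathlib
import Groth.Prelude.Def_W4c5quivmodgenus0Quiv

set_option autoImplicit false
universe u v w

namespace Groth.Agent.Quick8
open Polynomial

theorem qsemistable_iff (K : Type u) [Field K] (ι : Type v) [Fintype ι]
    (s : ι → (Fin 2 → K)) (hs : ∀ i, s i ≠ 0) (θ : ι → ℚ) (h0 : ∀ i, 0 ≤ θ i)
    (h2 : ∑ i, θ i = 2) :
    PtQuiv.QSemistable (-1) θ s ↔
      ∀ (J : Finset ι) (v : Fin 2 → K), (∀ i ∈ J, s i ∈ K ∙ v) → ∑ i ∈ J, θ i ≤ 1 := by
  classical
  constructor
  · rintro ⟨-, h⟩ J v hJ
    by_cases hv : v = 0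
    · subst hv
      have : J = ∅ := Finset.eq_empty_of_forall_notMem fun i hi => hs i (by simpa using hJ i hi)
      simp [this]
    · have := h (K ∙ v) J hJ
      unfold PtQuiv.QWt at this
      rw [finrank_span_singleton hv] at this
      push_cast at this
      linarith
  · intro h
    refine ⟨by rw [h2]; norm_num, fun L I hI => ?_⟩
    unfold PtQuiv.QWt
    have hd : Module.finrank K L ≤ 2 := by simpa using Submodule.finrank_le L
    interval_cases hL : Module.finrank K L
    · rw [Submodule.finrank_eq_zero] at hL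
      have : I = ∅ := Finset.eq_empty_of_forall_notMem fun i hi => hs i (by simpa [hL] using hI i hi)
      simp [this]
    · obtain ⟨v, hvL, -, hv⟩ : ∃ v ∈ L, v ≠ 0 ∧ ∀ w ∈ L, w ∈ K ∙ v := by
        obtain ⟨⟨v, hvL⟩, hv0, hsp⟩ := finrank_eq_one_iff'.mp hL
        refine ⟨v, hvL, fun e => hv0 (Subtype.ext e), fun w hw => ?_⟩
        obtain ⟨c, hc⟩ := hsp ⟨w, hw⟩
        exact Submodule.mem_span_singleton.mpr ⟨c, congrArg Subtype.val hc⟩
      have := h I v fun i hi => hv _ (hI i hi)
      push_cast
      linarith
    · have : ∑ i ∈ I, θ i ≤ 2 := h2 ▸ Finset.sum_le_sum_of_subset_of_nonneg (Finset.subset_univ I) (fun i _ _ => h0 i)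
      push_cast
      linarith

theorem quad_closure {A : Type u} {K : Type v} {L : Type w}
    [CommRing A] [IsDomain A] [UniqueFactorizationMonoid A] [Field K] [Algebra A K] [IsFractionRing A K]
    [Field L] [Algebra K L] [Algebra A L] [IsScalarTower A K L]
    (h2 : IsUnit (2 : A)) (hL : Module.finrank K L = 2)
    (d : A) (hd : Squarefree d) (y : L) (hy : y * y = algebraMap A L d)
    (hyK : y ∉ Set.range (algebraMap K L)) :
    integralClosure A L = Algebra.adjoin A {y} := by
  classical
  have hyint : IsIntegral A y := ⟨X ^ 2 - C d, monic_X_pow_sub_C d two_ne_zero, by simp [sq, hy]⟩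
  refine le_antisymm (fun z hz => ?_) (Algebra.adjoin_le (Set.singleton_subset_iff.mpr hyint))
  have hz' : IsIntegral A z := hz
  haveI : FiniteDimensional K L := Module.finite_of_finrank_eq_succ hL
  have hli : LinearIndependent K ![(1 : L), y] := by
    rw [LinearIndependent.pair_iff]
    intro s t hst
    by_cases ht : t = 0
    · subst ht; simp [Algebra.smul_def] at hst; exact ⟨hst, rfl⟩
    · refine absurd ⟨-s / t, ?_⟩ hyK
      rw [Algebra.smul_def, Algebra.smul_def, mul_one] at hst
      rw [map_div₀, map_neg, div_eq_iff ((_root_.map_ne_zero _).mpr ht)]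
      linear_combination -hst
  obtain ⟨a, b, rfl⟩ : ∃ a b : K, z = algebraMap K L a + algebraMap K L b * y := by
    let bas := basisOfLinearIndependentOfCardEqFinrank hli (by simp [hL])
    refine ⟨bas.repr z 0, bas.repr z 1, ?_⟩
    conv_lhs => rw [← bas.sum_repr z]
    simp [bas, Fin.sum_univ_two, Algebra.smul_def]
  have hmem : ∀ (a0 b0 : A), algebraMap K L (algebraMap A K a0) + algebraMap K L (algebraMap A K b0) * y ∈ Algebra.adjoin A {y} := fun a0 b0 => by
    rw [← IsScalarTower.algebraMap_apply, ← IsScalarTower.algebraMap_apply]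
    exact add_mem (Subalgebra.algebraMap_mem _ _) (mul_mem (Subalgebra.algebraMap_mem _ _) (Algebra.subset_adjoin rfl))
  have intK : ∀ c : K, IsIntegral A (algebraMap K L c) → ∃ c0, algebraMap A K c0 = c := fun c hc =>
    IsIntegrallyClosed.isIntegral_iff.mp ((isIntegral_algHom_iff (IsScalarTower.toAlgHom A K L) (algebraMap K L).injective).mp hc)
  -- the trace
  have ha : ∃ a0, algebraMap A K a0 = a := by
    by_cases hb : b = 0
    · subst hb
      exact intK a (by simpa using hz')
    set z := algebraMap K L a + algebraMap K L b * y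
    let P : K[X] := X ^ 2 + (C (-(2 * a)) * X + C (a ^ 2 - b ^ 2 * algebraMap A K d))
    have hPm : P.Monic := by
      refine monic_X_pow_add ?_
      exact lt_of_le_of_lt (degree_add_le _ _) (max_lt (lt_of_le_of_lt (degree_C_mul_X_le _) (by exact_mod_cast one_lt_two)) (lt_of_le_of_lt degree_C_le (by exact_mod_cast two_pos)))
    have hroot : aeval z P = 0 := by
      simp only [P, map_add, map_mul, aeval_X, aeval_C, map_pow, map_neg, map_sub, map_ofNat]
      rw [← IsScalarTower.algebraMap_apply]
      linear_combination (algebraMap K L b) ^ 2 * hy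
    have hzK : z ∉ Set.range (algebraMap K L) := by
      rintro ⟨c, hc⟩
      refine hyK ⟨(c - a) / b, ?_⟩
      rw [map_div₀, map_sub, div_eq_iff ((_root_.map_ne_zero _).mpr hb), hc]
      show algebraMap K L a + algebraMap K L b * y - algebraMap K L a = y * algebraMap K L b
      ring
    have hPd : P.natDegree = 2 := by
      simp only [P]
      compute_degree!
    have hzi : IsIntegral K z := Algebra.IsIntegral.isIntegral z
    have h2le : 2 ≤ (minpoly K z).natDegree := by
      by_contra hlt
      have hpos := minpoly.natDegree_pos hzi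
      have h1 : (minpoly K z).natDegree = 1 := by omega
      exact hzK (minpoly.natDegree_eq_one_iff.mp h1)
    have hPeq : minpoly K z = P := (eq_of_monic_of_dvd_of_natDegree_le (minpoly.monic hzi) hPm (minpoly.dvd K z hroot) (by omega)).symm
    have hc1 := congrArg (fun q : K[X] => q.coeff 1) (hPeq.symm.trans (minpoly.isIntegrallyClosed_eq_field_fractions' K hz'))
    simp only [P, coeff_add, coeff_X_pow, coeff_C_mul, coeff_X_one, coeff_C, coeff_map] at hc1
    rw [if_neg (by omega), if_neg (by omega), zero_add, mul_one, add_zero] at hc1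
    obtain ⟨u, hu⟩ := h2.exists_left_inv
    refine ⟨-(u * (minpoly A z).coeff 1), ?_⟩
    have hu' := congrArg (algebraMap A K) hu
    rw [map_mul, map_one, map_ofNat] at hu'
    rw [map_neg, map_mul, ← hc1]
    linear_combination a * hu'
  obtain ⟨a0, rfl⟩ := ha
  have hby : IsIntegral A (algebraMap K L b * y) := by
    have := hz'.sub (isIntegral_algebraMap (R := A) (x := a0) : IsIntegral A (algebraMap A L a0))
    rwa [← IsScalarTower.algebraMap_apply, add_sub_cancel_left] at this
  obtain ⟨c, hc⟩ := intK (b ^ 2 * algebraMap A K d) (by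
    have := hby.mul hby
    rw [map_mul, map_pow, ← IsScalarTower.algebraMap_apply, ← hy]
    rw [show (algebraMap K L b) ^ 2 * (y * y) = algebraMap K L b * y * (algebraMap K L b * y) by ring]
    exact this)
  obtain ⟨num, den, hco, rfl⟩ : ∃ num den : A, IsRelPrime num den ∧ algebraMap A K num / algebraMap A K den = b :=
    ⟨IsFractionRing.num A b, IsFractionRing.den A b, IsFractionRing.num_den_reduced A b, IsFractionRing.mk'_num_den' A b⟩
  by_cases hden : den = 0
  · rw [hden, map_zero, div_zero] at hz ⊢
    simpa using hmem a0 0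
  have hden' : algebraMap A K den ≠ 0 := (map_ne_zero_iff _ (IsFractionRing.injective A K)).mpr hden
  have heq : den * den * c = num * num * d := by
    apply IsFractionRing.injective A K
    rw [map_mul, map_mul, map_mul, map_mul, hc]
    field_simp
  have hdd : den * den ∣ d := ((hco.mul_left hco).symm.mul_left (hco.mul_left hco).symm).dvd_of_dvd_mul_left ⟨c, heq.symm⟩
  obtain ⟨w, hw⟩ := (hd den hdd)
  have : algebraMap A K num / algebraMap A K den = algebraMap A K (num * ↑w⁻¹) := by
    rw [div_eq_iff hden', ← map_mul, mul_assoc, ← hw, Units.inv_mul, mul_one]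
  rw [this]
  exact hmem a0 _

end Groth.Agent.Quick8
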