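import Mathlib

set_option autoImplicit false
universe u v w

namespace Groth.Agent.Quick8
open TensorProduct

theorem vanishing_ideal_hom {B : Type u} [CommRing B]
    {E : Type v} [AddCommGroup E] [Module B E]
    {F : Type w} [AddCommGroup F] [Module B F] [Module.Finite B F] [Module.Projective B F]
    (β : E →ₗ[B] F) :
    ∃! I : Ideal B, ∀ (C : Type u) [CommRing C] [Algebra B C],
      LinearMap.baseChange C β = 0 ↔ I ≤ RingHom.ker (algebraMap B C) := by
  classical
  let I : Ideal B := Ideal.span {b | ∃ (e : E) (φ : F →ₗ[B] B), b = φ (β e)}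
  have key : ∀ (C : Type u) [CommRing C] [Algebra B C], LinearMap.baseChange C β = 0 ↔ I ≤ RingHom.ker (algebraMap B C) := by
    intro C _ _
    constructor
    · intro h
      refine Ideal.span_le.mpr ?_
      rintro _ ⟨e, φ, rfl⟩
      have h1 := LinearMap.congr_fun h ((1 : C) ⊗ₜ[B] e)
      rw [LinearMap.baseChange_tmul, LinearMap.zero_apply] at h1
      have h2 := congrArg (fun z => TensorProduct.rid B C (φ.lTensor C z)) h1
      simp only [LinearMap.lTensor_tmul, TensorProduct.rid_tmul, map_zero] at h2
      show algebraMap B C (φ (β e)) = 0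
      rwa [Algebra.algebraMap_eq_smul_one]
    · intro h
      obtain ⟨n, p, s, -, -, hps⟩ := Module.Finite.exists_comp_eq_id_of_projective B F
      refine TensorProduct.AlgebraTensorModule.ext fun c e => ?_
      rw [LinearMap.baseChange_tmul, LinearMap.zero_apply, show β e = p (s (β e)) from (LinearMap.congr_fun hps (β e)).symm, pi_eq_sum_univ (s (β e)), map_sum, TensorProduct.tmul_sum]
      refine Finset.sum_eq_zero fun i _ => ?_
      rw [map_smul, ← TensorProduct.smul_tmul, Algebra.smul_def,
        show algebraMap B C (s (β e) i) = 0 from h (Ideal.subset_span ⟨e, (LinearMap.proj i).comp s, rfl⟩), zero_mul, TensorProduct.zero_tmul]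
  refine ⟨I, key, fun J hJ => ?_⟩
  apply le_antisymm
  · have h := (hJ (B ⧸ I)).mp ((key (B ⧸ I)).mpr (by rw [Ideal.Quotient.algebraMap_eq, Ideal.mk_ker]))
    rwa [Ideal.Quotient.algebraMap_eq, Ideal.mk_ker] at h
  · have h := (key (B ⧸ J)).mp ((hJ (B ⧸ J)).mpr (by rw [Ideal.Quotient.algebraMap_eq, Ideal.mk_ker]))
    rwa [Ideal.Quotient.algebraMap_eq, Ideal.mk_ker] at h

end Groth.Agent.Quick8
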