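import Mathlib

set_option autoImplicit false
universe u v

namespace Groth.Agent.Quick8

theorem filtered_regular {A : Type u} [CommRing A] {M : Type v} [AddCommGroup M] [Module A M]
    (F : ℕ → Submodule A M) (hanti : Antitone F) (h0 : F 0 = ⊤) (hsep : ⨅ k, F k = ⊥) (f : A)
    (hreg : ∀ k : ℕ, IsSMulRegular (↥(F k) ⧸ Submodule.comap (F k).subtype (F (k + 1))) f) :
    IsSMulRegular M f ∧ ∀ k : ℕ, F k ⊓ (Ideal.span {f} • (⊤ : Submodule A M)) = Ideal.span {f} • F k := by
  have step : ∀ k, ∀ y ∈ F k, f • y ∈ F (k + 1) → y ∈ F (k + 1) := by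
    intro k y hy hfy
    have : (Submodule.Quotient.mk (⟨y, hy⟩ : F k) : F k ⧸ Submodule.comap (F k).subtype (F (k + 1))) = 0 := by
      refine hreg k ?_
      show f • _ = f • (0 : F k ⧸ Submodule.comap (F k).subtype (F (k + 1)))
      rw [smul_zero, ← Submodule.Quotient.mk_smul, Submodule.Quotient.mk_eq_zero]
      exact hfy
    rw [Submodule.Quotient.mk_eq_zero] at this
    exact this
  have deep : ∀ k y, f • y ∈ F k → y ∈ F k := by
    intro k
    induction k with
    | zero => intro y _; rw [h0]; trivial
    | succ k ih => intro y hy; exact step k y (ih y (hanti (Nat.le_succ k) hy)) hy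
  refine ⟨fun x y h => ?_, fun k => ?_⟩
  · have hz : x - y ∈ ⨅ k, F k := by
      rw [Submodule.mem_iInf]
      intro k
      refine deep k _ ?_
      rw [smul_sub, show f • x = f • y from h, sub_self]
      exact Submodule.zero_mem _
    rw [hsep, Submodule.mem_bot, sub_eq_zero] at hz
    exact hz
  · ext x
    rw [Submodule.mem_inf, Submodule.ideal_span_singleton_smul, Submodule.mem_smul_pointwise_iff_exists]
    constructor
    · rintro ⟨hx, y, -, rfl⟩
      exact Submodule.mem_smul_pointwise_iff_exists _ _ _ |>.mpr ⟨y, deep k y hx, rfl⟩ |> fun h => by rwa [Submodule.ideal_span_singleton_smul]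
    · intro h
      rw [Submodule.ideal_span_singleton_smul, Submodule.mem_smul_pointwise_iff_exists] at h
      obtain ⟨y, hy, rfl⟩ := h
      exact ⟨Submodule.smul_mem _ _ hy, y, trivial, rfl⟩

end Groth.Agent.Quick8
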