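import Mathlib

set_option autoImplicit false
universe u v

namespace Groth.Agent.Quick8
open Polynomial

theorem semilinear_fixed_finite {k V : Type u} [Field k] (p : ℕ) [hp : Fact p.Prime]
    [AddCommGroup V] [Module k V] [FiniteDimensional k V] (F : V →+ V)
    (hF : ∀ (c : k) (v : V), F (c • v) = c ^ p • F v) :
    Set.Finite {v : V | F v = v} ∧ Nat.card {v : V | F v = v} ≤ p ^ Module.finrank k V := by
  classical
  set W := {v : V | F v = v}
  obtain ⟨b, hbW, hspan, hli⟩ := exists_linearIndependent k W
  have hbfin : b.Finite := hli.setFinite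
  haveI := hbfin.fintype
  let C : Set k := {c | c ^ p = c}
  have hC : C.Finite ∧ Nat.card C ≤ p := by
    have h1 : C ⊆ ↑((X ^ p - X : k[X]).roots.toFinset) := by
      intro c hc
      simp only [Finset.mem_coe, Multiset.mem_toFinset, mem_roots (FiniteField.X_pow_card_sub_X_ne_zero k hp.out.one_lt), IsRoot.def, eval_sub, eval_pow, eval_X]
      exact sub_eq_zero.mpr hc
    refine ⟨(Finset.finite_toSet _).subset h1, ?_⟩
    refine (Nat.card_mono (Finset.finite_toSet _) h1).trans ?_
    simp only [SetLike.coe_sort_coe, Nat.card_eq_finsetCard]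
    exact (Multiset.toFinset_card_le _).trans ((card_roots' _).trans (FiniteField.X_pow_card_sub_X_natDegree_eq k hp.out.one_lt).le)
  haveI := hC.1.fintype
  have hex : ∀ w : W, ∃ c : b → C, (w : V) = ∑ i, (c i : k) • (i : V) := by
    rintro ⟨w, hw⟩
    have hmem : w ∈ Submodule.span k (Set.range ((↑) : b → V)) := by
      rw [Subtype.range_coe, hspan]
      exact Submodule.subset_span hw
    obtain ⟨c, hc⟩ := (Submodule.mem_span_range_iff_exists_fun k).mp hmem
    have h2 : ∑ i, (c i ^ p - c i) • (i : V) = 0 := by
      simp only [sub_smul, Finset.sum_sub_distrib, hc]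
      have : F w = ∑ i, c i ^ p • (i : V) := by
        conv_lhs => rw [← hc]
        rw [map_sum]
        exact Finset.sum_congr rfl fun i _ => by rw [hF]; congr 1; exact hbW i.2
      rw [← this, show F w = w from hw, sub_self]
    exact ⟨fun i => ⟨c i, sub_eq_zero.mp ((Fintype.linearIndependent_iff.mp hli) _ h2 i)⟩, hc.symm⟩
  choose g hg using hex
  have ginj : Function.Injective g := fun a a' h => Subtype.ext (by rw [hg a, hg a', h])
  haveI : Finite W := Finite.of_injective g ginj
  refine ⟨Set.toFinite W, ?_⟩
  refine (Nat.card_le_card_of_injective g ginj).trans ?_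
  rw [Nat.card_fun, Nat.card_eq_fintype_card (α := b)]
  refine (Nat.pow_le_pow_left hC.2 _).trans (Nat.pow_le_pow_right hp.out.pos ?_)
  exact hli.fintype_card_le_finrank

end Groth.Agent.Quick8
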