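import Mathlib

set_option autoImplicit false
universe u

namespace Groth.Agent.Quick8
open DirectSum

theorem graded_nakayama {R S : Type u} [CommRing R] [CommRing S] [Algebra R S] (𝒜 : ℕ → Submodule R S) [GradedAlgebra 𝒜]
    (M : Type u) [AddCommGroup M] [Module R M] [Module S M] [IsScalarTower R S M] (ℳ : ℕ → Submodule R M) [DirectSum.Decomposition ℳ] [SetLike.GradedSMul 𝒜 ℳ]
    {n : ℕ} (x : Fin n → M) (hx : ∀ i, SetLike.IsHomogeneousElem ℳ (x i))
    (h : Submodule.span S (Set.range x) ⊔ (HomogeneousIdeal.irrelevant 𝒜).toIdeal • (⊤ : Submodule S M) = ⊤) :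
    Submodule.span S (Set.range x) = ⊤ := by
  classical
  set N := Submodule.span S (Set.range x)
  let P : ℕ → (M →+ M) := fun d => AddMonoidHom.mk' (fun z => (decompose ℳ z d : M)) (fun a b => by
    rw [DirectSum.decompose_add, DirectSum.add_apply, Submodule.coe_add])
  have key : ∀ (d : ℕ) (s : S) (y : M),
      (∀ i j, i + j = d → ((decompose 𝒜 s i : S)) • P j y ∈ N) → P d (s • y) ∈ N := by
    intro d s y hh
    have e : s • y = ∑ i ∈ (decompose 𝒜 s).support, ∑ j ∈ (decompose ℳ y).support, (decompose 𝒜 s i : S) • P j y := by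
      conv_lhs => rw [← DirectSum.sum_support_decompose 𝒜 s, Finset.sum_smul]
      refine Finset.sum_congr rfl fun i _ => ?_
      conv_lhs => rw [← DirectSum.sum_support_decompose ℳ y, Finset.smul_sum]
      rfl
    rw [e, map_sum]
    refine Submodule.sum_mem _ fun i _ => ?_
    rw [map_sum]
    refine Submodule.sum_mem _ fun j _ => ?_
    have hm : (decompose 𝒜 s i : S) • P j y ∈ ℳ (i + j) :=
      SetLike.GradedSMul.smul_mem (A := 𝒜) (B := ℳ) (decompose 𝒜 s i).2 (decompose ℳ y j).2
    by_cases e : i + j = d
    · subst e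
      rw [show P (i + j) _ = _ from DirectSum.decompose_of_mem_same ℳ hm]
      exact hh i j rfl
    · rw [show P d _ = _ from DirectSum.decompose_of_mem_ne ℳ hm e]
      exact Submodule.zero_mem _
  have homN : ∀ a ∈ N, ∀ d, P d a ∈ N := by
    intro a ha
    induction ha using Submodule.span_induction with
    | mem y hy =>
      obtain ⟨l, rfl⟩ := hy
      obtain ⟨e, he⟩ := hx l
      intro d
      by_cases hed : e = d
      · subst hed
        rw [show P e _ = _ from DirectSum.decompose_of_mem_same ℳ he]
        exact Submodule.subset_span ⟨l, rfl⟩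
      · rw [show P d _ = _ from DirectSum.decompose_of_mem_ne ℳ he hed]
        exact Submodule.zero_mem _
    | zero => intro d; rw [map_zero]; exact Submodule.zero_mem _
    | add a b _ _ iha ihb => intro d; rw [map_add]; exact Submodule.add_mem _ (iha d) (ihb d)
    | smul c y _ ihy => intro d; exact key d c y fun i j _ => Submodule.smul_mem _ _ (ihy j)
  have main : ∀ d, ∀ m ∈ ℳ d, m ∈ N := by
    intro d
    induction d using Nat.strong_induction_on with
    | _ d ih =>
      intro m hm
      have hmm : m ∈ N ⊔ (HomogeneousIdeal.irrelevant 𝒜).toIdeal • (⊤ : Submodule S M) := by rw [h]; trivial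
      obtain ⟨a, ha, b, hb, rfl⟩ := Submodule.mem_sup.mp hmm
      rw [← (show P d (a + b) = a + b from DirectSum.decompose_of_mem_same ℳ hm), map_add]
      refine Submodule.add_mem _ (homN a ha d) ?_
      refine Submodule.smul_induction_on hb (fun r hr y _ => key d r y fun i j hij => ?_) (fun a b iha ihb => ?_)
      · rcases Nat.eq_zero_or_pos i with rfl | hi
        · have h0 : (decompose 𝒜 r 0 : S) = 0 := (HomogeneousIdeal.mem_irrelevant_iff 𝒜 r).mp hr
          rw [h0, zero_smul]
          exact Submodule.zero_mem _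
        · exact Submodule.smul_mem _ _ (ih j (by omega) _ (SetLike.coe_mem _))
      · rw [map_add]; exact Submodule.add_mem _ iha ihb
  refine eq_top_iff.mpr fun m _ => ?_
  rw [← DirectSum.sum_support_decompose ℳ m]
  exact Submodule.sum_mem _ fun d _ => main d _ (SetLike.coe_mem _)

end Groth.Agent.Quick8
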