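import Mathlib

set_option autoImplicit false
universe u

namespace Groth.Agent.Quick8
open CategoryTheory CategoryTheory.Limits AlgebraicGeometry

theorem qc_of_surj_comp {X Y Z : Scheme.{u}} (f : X ⟶ Y) (g : Y ⟶ Z) [Surjective f] [QuasiCompact (f ≫ g)] :
    QuasiCompact g := by
  refine ⟨fun U hU hU' => ?_⟩
  have h1 : IsCompact ((f ≫ g) ⁻¹' U) := QuasiCompact.isCompact_preimage U hU hU'
  have h2 : f '' ((f ≫ g) ⁻¹' U) = g ⁻¹' U := by
    rw [show ((f ≫ g) ⁻¹' U : Set X) = f ⁻¹' (g ⁻¹' U) from rfl]
    exact Set.image_preimage_eq _ f.surjective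
  rw [← h2]
  exact h1.image f.continuous

theorem qcqs_descends {X Y Z : Scheme.{u}} (f : X ⟶ Y) (g : Y ⟶ Z)
    [Surjective f] [QuasiCompact f] [QuasiCompact (f ≫ g)] [QuasiSeparated (f ≫ g)] :
    QuasiCompact g ∧ QuasiSeparated g := by
  refine ⟨qc_of_surj_comp f g, ⟨?_⟩⟩
  let m := pullback.map (f ≫ g) (f ≫ g) g g f f (𝟙 Z) (by simp) (by simp)
  have hm : QuasiCompact m := MorphismProperty.pullbackMap (P := @QuasiCompact) (h₁ := (inferInstance : QuasiCompact f)) (h₂ := (inferInstance : QuasiCompact f)) (e₁ := rfl) (e₂ := rfl)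
  have e : f ≫ pullback.diagonal g = pullback.diagonal (f ≫ g) ≫ m := by
    apply pullback.hom_ext
    · simp only [Category.assoc, m, pullback.map, pullback.lift_fst, pullback.diagonal_fst, Category.comp_id]
      rw [← Category.assoc, pullback.diagonal_fst, Category.id_comp]
    · simp only [Category.assoc, m, pullback.map, pullback.lift_snd, pullback.diagonal_snd, Category.comp_id]
      rw [← Category.assoc, pullback.diagonal_snd, Category.id_comp]
  haveI : QuasiCompact (f ≫ pullback.diagonal g) := by rw [e]; infer_instance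
  exact qc_of_surj_comp f _

end Groth.Agent.Quick8
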