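import Mathlib

set_option autoImplicit false
universe u

namespace Groth.Agent.Quick8
open Topology

theorem translates_nonarch (T : Type u) [Group T] [τ : TopologicalSpace T] :
    @NonarchimedeanGroup T _ (TopologicalSpace.generateFrom
      {S : Set T | ∃ (Γ : OpenSubgroup T) (x y : T), S = (fun g : T => x * g * y) '' (Γ : Set T)}) := by
  set B := {S : Set T | ∃ (Γ : OpenSubgroup T) (x y : T), S = (fun g : T => x * g * y) '' (Γ : Set T)}
  have gen : ∀ (Γ : OpenSubgroup T) (x y : T), IsOpen[TopologicalSpace.generateFrom B] ((fun g : T => x * g * y) '' (Γ : Set T)) :=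
    fun Γ x y => TopologicalSpace.GenerateOpen.basic _ ⟨Γ, x, y, rfl⟩
  have memiff : ∀ (Γ : OpenSubgroup T) (x y z : T), z ∈ (fun g : T => x * g * y) '' (Γ : Set T) ↔ x⁻¹ * z * y⁻¹ ∈ Γ := by
    intro Γ x y z
    constructor
    · rintro ⟨g, hg, rfl⟩; simpa [mul_assoc] using hg
    · intro h; exact ⟨_, h, by simp [mul_assoc]⟩
  have hTG : @IsTopologicalGroup T (TopologicalSpace.generateFrom B) _ := by
    refine @IsTopologicalGroup.mk _ (TopologicalSpace.generateFrom B) _ (@ContinuousMul.mk _ (TopologicalSpace.generateFrom B) _ ?_) (@ContinuousInv.mk _ (TopologicalSpace.generateFrom B) _ ?_)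
    · rw [continuous_generateFrom_iff]
      rintro S ⟨Γ, x, y, rfl⟩
      rw [@isOpen_prod_iff T T (TopologicalSpace.generateFrom B) (TopologicalSpace.generateFrom B)]
      intro a b hab
      rw [Set.mem_preimage, memiff] at hab
      refine ⟨_, _, gen Γ x (x⁻¹ * a), gen Γ (a⁻¹ * x) (x⁻¹ * a * b), ?_, ?_, ?_⟩
      · rw [memiff]; simp [mul_assoc]
      · rw [memiff]; simp [mul_assoc]
      · rintro ⟨c, d⟩ ⟨hc, hd⟩
        rw [memiff] at hc hd
        rw [Set.mem_preimage, memiff]
        have := mul_mem (mul_mem hc hd) hab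
        simp only [mul_inv_rev, inv_inv, mul_assoc, mul_inv_cancel_left, inv_mul_cancel_left] at this ⊢
        exact this
    · rw [continuous_generateFrom_iff]
      rintro S ⟨Γ, x, y, rfl⟩
      have : (fun a : T => a⁻¹) ⁻¹' ((fun g : T => x * g * y) '' (Γ : Set T)) = (fun g : T => y⁻¹ * g * x⁻¹) '' (Γ : Set T) := by
        ext z
        rw [Set.mem_preimage, memiff, memiff]
        constructor <;> intro h <;> have := inv_mem h <;> simpa [mul_assoc] using this
      rw [show (Inv.inv ⁻¹' _ : Set T) = _ from this]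
      exact gen Γ _ _
  refine @NonarchimedeanGroup.mk _ _ (TopologicalSpace.generateFrom B) hTG ?_
  intro U hU
  obtain ⟨W, hWU, hW, h1⟩ := (@mem_nhds_iff T (TopologicalSpace.generateFrom B) 1 U).mp hU
  suffices h : ∀ W, TopologicalSpace.GenerateOpen B W → (1 : T) ∈ W → ∃ V : @OpenSubgroup T _ (TopologicalSpace.generateFrom B), (V : Set T) ⊆ W by
    obtain ⟨V, hV⟩ := h W hW h1
    exact ⟨V, hV.trans hWU⟩
  clear * - gen memiff hTG
  intro W hW
  letI : TopologicalSpace T := TopologicalSpace.generateFrom B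
  induction hW with
  | basic S hS =>
    intro h1
    obtain ⟨Γ, x, y, rfl⟩ := hS
    rw [memiff, mul_one] at h1
    refine ⟨⟨(Γ : Subgroup T).map (MulAut.conj x).toMonoidHom, ?_⟩, ?_⟩
    · convert gen Γ x x⁻¹ using 1
      rfl
    · rintro z ⟨g, hg, rfl⟩
      rw [memiff]
      have := mul_mem hg h1
      simpa [MulAut.conj_apply, mul_assoc] using this
  | univ => intro _; exact ⟨⟨⊤, @isOpen_univ T (TopologicalSpace.generateFrom B)⟩, fun _ _ => trivial⟩
  | inter s t' _ _ ihs iht =>
    intro h1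
    obtain ⟨V, hV⟩ := ihs h1.1
    obtain ⟨V', hV'⟩ := iht h1.2
    exact ⟨V ⊓ V', fun z hz => ⟨hV hz.1, hV' hz.2⟩⟩
  | sUnion S _ ih =>
    intro h1
    obtain ⟨s, hs, h1s⟩ := h1
    obtain ⟨V, hV⟩ := ih s hs h1s
    exact ⟨V, hV.trans (Set.subset_sUnion_of_mem hs)⟩

end Groth.Agent.Quick8
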