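import Mathlib

set_option autoImplicit false
universe u

namespace Groth.Agent.Quick8
open CategoryTheory CategoryTheory.Limits AlgebraicGeometry TopologicalSpace

theorem discrete_of_t1 (G : Scheme.{u}) [IsLocallyNoetherian G] [T1Space G] : DiscreteTopology G := by
  apply discreteTopology_iff_isOpen_singleton.mpr
  intro x
  obtain ⟨W, hW1, hW2, _⟩ := exists_isAffineOpen_mem_and_subset (TopologicalSpace.Opens.mem_top x)
  haveI : IsNoetherianRing Γ(G, W) := IsLocallyNoetherian.component_noetherian ⟨W, hW1⟩
  haveI : NoetherianSpace (Spec Γ(G, W)) := inferInstanceAs (NoetherianSpace (PrimeSpectrum _))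
  haveI : NoetherianSpace W := (noetherianSpace_iff_of_homeomorph hW1.isoSpec.hom.homeomorph).mpr inferInstance
  haveI : QuasiSober W := W.2.isOpenEmbedding_subtypeVal.quasiSober
  haveI : T1Space W := inferInstanceAs (T1Space (W : Set G))
  have hfin : (Set.univ : Set W).Finite := by
    rw [← sUnion_irreducibleComponents]
    refine Set.Finite.sUnion NoetherianSpace.finite_irreducibleComponents fun Z hZ => ?_
    obtain ⟨z, hz⟩ := QuasiSober.sober hZ.1 (isClosed_of_mem_irreducibleComponents Z hZ)
    rw [← hz.def, closure_singleton]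
    exact Set.finite_singleton z
  haveI : Finite W := Set.finite_univ_iff.mp hfin
  have := (isOpen_discrete ({⟨x, hW2⟩} : Set W)).trans W.2
  have e : ({x} : Set G) = Subtype.val '' ({⟨x, hW2⟩} : Set W) := by
    ext z
    constructor
    · intro hz; exact ⟨⟨x, hW2⟩, rfl, (Set.mem_singleton_iff.mp hz).symm⟩
    · rintro ⟨a, ha, rfl⟩; rw [Set.mem_singleton_iff.mp ha]; rfl
  rw [e]
  exact this

theorem lqf_descends {X Y S : Scheme.{u}} (f : X ⟶ Y) (g : Y ⟶ S) [Surjective f]
    [LocallyQuasiFinite (f ≫ g)] [LocallyOfFiniteType (f ≫ g)] [LocallyOfFiniteType g] :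
    LocallyQuasiFinite g := by
  rw [locallyQuasiFinite_iff_isDiscrete_preimage_singleton]
  intro s
  let φ : (f ≫ g).fiber s ⟶ g.fiber s :=
    pullback.lift ((f ≫ g).fiberι s ≫ f) (pullback.snd _ _) (by
      rw [Category.assoc]; exact pullback.condition)
  haveI hg' : LocallyOfFiniteType (pullback.snd g (S.fromSpecResidueField s)) :=
    MorphismProperty.pullback_snd _ _ ‹LocallyOfFiniteType g›
  haveI hfg' : LocallyOfFiniteType (pullback.snd (f ≫ g) (S.fromSpecResidueField s)) :=
    MorphismProperty.pullback_snd _ _ ‹LocallyOfFiniteType (f ≫ g)›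
  haveI hg2 : LocallyOfFiniteType (g.fiberToSpecResidueField s) := hg'
  haveI : LocallyOfFiniteType (φ ≫ g.fiberToSpecResidueField s) := by
    rw [show φ ≫ g.fiberToSpecResidueField s = (f ≫ g).fiberToSpecResidueField s from pullback.lift_snd _ _ _]
    exact hfg'
  haveI : LocallyOfFiniteType φ := locallyOfFiniteType_of_comp φ (g.fiberToSpecResidueField s)
  haveI : JacobsonSpace (g.fiber s) := LocallyOfFiniteType.jacobsonSpace (g.fiberToSpecResidueField s)
  haveI : IsLocallyNoetherian (g.fiber s) := LocallyOfFiniteType.isLocallyNoetherian (g.fiberToSpecResidueField s)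
  haveI : DiscreteTopology ((f ≫ g).fiber s) := inferInstance
  haveI : T1Space (g.fiber s) := ⟨fun y => by
    obtain ⟨x, hx⟩ := f.surjective (g.fiberι s y)
    have hs : x ∈ (f ≫ g) ⁻¹' {s} := by
      have : g.fiberι s y ∈ g ⁻¹' {s} := by rw [← g.range_fiberι s]; exact ⟨y, rfl⟩
      simpa [hx] using this
    rw [← (f ≫ g).range_fiberι s] at hs
    obtain ⟨x', hx'⟩ := hs
    have e : φ x' = y := by
      apply (g.fiberι s).isEmbedding.injective
      have h2 : φ ≫ g.fiberι s = (f ≫ g).fiberι s ≫ f := pullback.lift_fst _ _ _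
      rw [← Scheme.Hom.comp_apply, h2, Scheme.Hom.comp_apply, hx', hx]
    rw [← e]
    exact φ.closePoints_subset_preimage_closedPoints (isClosed_discrete {x'})⟩
  haveI := discrete_of_t1 (g.fiber s)
  simpa [Scheme.Hom.range_fiberι] using
    (isDiscrete_univ_iff.mpr inferInstance).image (g.fiberι s).isEmbedding.toIsInducing

end Groth.Agent.Quick8
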