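import Mathlib

set_option autoImplicit false
universe u

namespace Groth.Agent.Quick8

theorem etale_nbhd (A B : Type u) [CommRing A] [CommRing B]
    [Algebra A B] (J : Ideal B)
    (h : ∀ (q : Ideal B) [q.IsPrime], J ≤ q → ∃ h : B, h ∉ q ∧ Algebra.Etale A (Localization.Away h)) :
    ∃ g : B, IsUnit (Ideal.Quotient.mk J g) ∧ Algebra.Etale A (Localization.Away g) := by
  let H : Set B := {b | Algebra.Etale A (Localization.Away b)}
  have htop : Ideal.span H ⊔ J = ⊤ := by
    by_contra hne
    obtain ⟨q, hq, hle⟩ := Ideal.exists_le_maximal _ hne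
    haveI := hq.isPrime
    obtain ⟨b, hb, hbe⟩ := h q (le_sup_right.trans hle)
    exact hb (hle (Ideal.mem_sup_left (Ideal.subset_span hbe)))
  obtain ⟨g, hg, j, hj, hgj⟩ := Submodule.mem_sup.mp (htop ▸ Submodule.mem_top : (1 : B) ∈ Ideal.span H ⊔ J)
  refine ⟨g, ?_, ?_⟩
  · have : Ideal.Quotient.mk J g = 1 := by
      rw [← map_one (Ideal.Quotient.mk J), Ideal.Quotient.eq, ← hgj]
      simpa using J.neg_mem hj
    rw [this]; exact isUnit_one
  · rw [← RingHom.etale_algebraMap]
    have hu : IsUnit (algebraMap B (Localization.Away g) g) := IsLocalization.Away.algebraMap_isUnit g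
    refine RingHom.Etale.ofLocalizationSpanTarget _ (algebraMap B (Localization.Away g) '' H) ?_ ?_
    · refine Ideal.eq_top_of_isUnit_mem _ ?_ hu
      rw [← Ideal.map_span]
      exact Ideal.mem_map_of_mem _ hg
    · rintro ⟨_, b, hb, rfl⟩
      rw [← IsScalarTower.algebraMap_eq A (Localization.Away g) (Localization.Away (algebraMap B (Localization.Away g) b)), RingHom.etale_algebraMap]
      haveI : Algebra.Etale A (Localization.Away b) := hb
      let T := Localization.Away (algebraMap B (Localization.Away b) g)
      haveI : Algebra.Etale (Localization.Away b) T := Algebra.Etale.of_isLocalizationAway (algebraMap B (Localization.Away b) g)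
      haveI : Algebra.Etale A T := Algebra.Etale.comp A (Localization.Away b) T
      let T' := Localization.Away (algebraMap B (Localization.Away g) b)
      haveI : IsLocalization.Away (b * g) T := IsLocalization.Away.mul' (Localization.Away b) T b g
      haveI : IsLocalization.Away (b * g) T' := IsLocalization.Away.mul (Localization.Away g) T' g b
      exact Algebra.Etale.of_equiv ((IsLocalization.algEquiv (Submonoid.powers (b * g)) T T').restrictScalars A)

end Groth.Agent.Quick8
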